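import Mathlib

/-!
# Nilpotent minimal covers: the replacement theorem (for S3894)

`ncov_main`: if a group `K` has a finite family `ℛ` of proper subgroups and more than `ℛ.card` elements `x i`
such that every nilpotent subgroup containing some `x i` is contained in the union of `ℛ`, and no nilpotent subgroup
contains two of the `x i`, then `K` has no minimal cover consisting of nilpotent subgroups.
-/

set_option autoImplicit false

namespace Cfsg.Agent.NCov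

open Classical in
/-- **THEOREM B.** -/
theorem ncov_main {K : Type*} [Group K] (ℛ : Finset (Subgroup K)) (hℛ : ∀ R ∈ ℛ, R ≠ ⊤)
    {I : Type*} [Fintype I] (x : I → K) (hcard : ℛ.card < Fintype.card I)
    (h1 : ∀ A : Subgroup K, Group.IsNilpotent ↥A → ∀ i, x i ∈ A → ∀ a ∈ A, ∃ R ∈ ℛ, a ∈ R)
    (h2 : ∀ A : Subgroup K, Group.IsNilpotent ↥A → ∀ i j, x i ∈ A → x j ∈ A → i = j) :
    ¬ ∃ 𝓐 : Finset (Subgroup K), ((∀ A ∈ 𝓐, A ≠ ⊤) ∧ (∀ g : K, ∃ A ∈ 𝓐, g ∈ A)) ∧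
      (∀ 𝓑 : Finset (Subgroup K), (∀ A ∈ 𝓑, A ≠ ⊤) ∧ (∀ g : K, ∃ A ∈ 𝓑, g ∈ A) → 𝓐.card ≤ 𝓑.card) ∧
      (∀ A ∈ 𝓐, Group.IsNilpotent ↥A) := by
  rintro ⟨𝓐, ⟨hprop, hcov⟩, hmin, hnil⟩
  choose f hf using fun i => hcov (x i)
  have hfinj : Function.Injective f := by
    intro i j hij
    exact h2 (f i) (hnil _ (hf i).1) i j (hf i).2 (hij ▸ (hf j).2)
  set 𝓐' : Finset (Subgroup K) := Finset.univ.image f with h𝓐'
  have hsub : 𝓐' ⊆ 𝓐 := by
    intro A hA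
    rw [h𝓐', Finset.mem_image] at hA
    obtain ⟨i, _, rfl⟩ := hA
    exact (hf i).1
  have hcard' : 𝓐'.card = Fintype.card I := by
    rw [h𝓐', Finset.card_image_of_injective _ hfinj, Finset.card_univ]
  set 𝓑 : Finset (Subgroup K) := (𝓐 \ 𝓐') ∪ ℛ with h𝓑
  have hB : (∀ A ∈ 𝓑, A ≠ ⊤) ∧ (∀ g : K, ∃ A ∈ 𝓑, g ∈ A) := by
    refine ⟨fun A hA => ?_, fun g => ?_⟩
    · rw [h𝓑, Finset.mem_union] at hA
      rcases hA with hA | hA
      · exact hprop A (Finset.mem_sdiff.1 hA).1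
      · exact hℛ A hA
    · obtain ⟨A, hA, hgA⟩ := hcov g
      by_cases hA' : A ∈ 𝓐'
      · rw [h𝓐', Finset.mem_image] at hA'
        obtain ⟨i, _, rfl⟩ := hA'
        obtain ⟨R, hR, hgR⟩ := h1 (f i) (hnil _ hA) i (hf i).2 g hgA
        exact ⟨R, Finset.mem_union_right _ hR, hgR⟩
      · exact ⟨A, Finset.mem_union_left _ (Finset.mem_sdiff.2 ⟨hA, hA'⟩), hgA⟩
  have h3 := hmin 𝓑 hB
  have h4 : 𝓑.card ≤ (𝓐 \ 𝓐').card + ℛ.card := Finset.card_union_le _ _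
  have h5 : (𝓐 \ 𝓐').card = 𝓐.card - 𝓐'.card := Finset.card_sdiff_of_subset hsub
  have h6 : 𝓐'.card ≤ 𝓐.card := Finset.card_le_card hsub
  omega

end Cfsg.Agent.NCov
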