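import Mathlib
import Cfsg.Agent.NCov.Main

/-!
# Nilpotent minimal covers: permutation-level theorems (for S3894)

* `ncov_lemmaN`: a nilpotent subgroup containing a `p`-element with a unique fixed point fixes that point.
* `ncov_T3`, `ncov_T2`, `ncov_T2'`: no nilpotent minimal cover, from permutation-level hypotheses.
-/

set_option autoImplicit false

namespace Cfsg.Agent.NCov

section Nilp

variable {K : Type*} [Group K] [Finite K]

/-- In a finite nilpotent subgroup `A`, the Sylow `p`-subgroup is normal and contains every `p`-element of `A`. -/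
theorem ncov_exists_sylow (p : ℕ) [Fact p.Prime] (A : Subgroup K) (hA : Group.IsNilpotent ↥A) :
    ∃ P : Subgroup K, P ≤ A ∧ IsPGroup p ↥P ∧ (∀ a ∈ A, ∀ g ∈ P, a * g * a⁻¹ ∈ P) ∧
      ∀ u ∈ A, (∃ m, u ^ (p ^ m) = 1) → u ∈ P := by
  have htfae := (Group.isNilpotent_of_finite_tfae (G := ↥A)).out 0 3
  have hnorm := htfae.1 hA
  obtain ⟨P⟩ : Nonempty (Sylow p ↥A) := inferInstance
  have hPn : (P : Subgroup ↥A).Normal := hnorm p inferInstance P
  refine ⟨(P : Subgroup ↥A).map A.subtype, ?_, ?_, ?_, ?_⟩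
  · rintro _ ⟨y, _, rfl⟩
    exact y.2
  · exact P.isPGroup'.map _
  · rintro a ha _ ⟨y, hy, rfl⟩
    exact ⟨⟨a, ha⟩ * y * ⟨a, ha⟩⁻¹, hPn.conj_mem y hy ⟨a, ha⟩, rfl⟩
  · rintro u hu ⟨m, hm⟩
    -- the subgroup generated by `u` in `A` is a `p`-group, hence inside a Sylow subgroup, which is `P`
    have hz : IsPGroup p ↥(Subgroup.zpowers (⟨u, hu⟩ : ↥A)) := by
      rintro ⟨y, hy⟩
      obtain ⟨k, rfl⟩ := Subgroup.mem_zpowers_iff.1 hy
      refine ⟨m, ?_⟩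
      apply Subtype.ext
      apply Subtype.ext
      simp only [Subgroup.coe_pow, Subgroup.coe_zpow, Subgroup.coe_one]
      rw [← zpow_natCast, ← zpow_mul, mul_comm, zpow_mul, zpow_natCast, hm, one_zpow]
    obtain ⟨Q, hQ⟩ := hz.exists_le_sylow
    have : Q = P := by
      have := Sylow.unique_of_normal P hPn
      exact Subsingleton.elim _ _
    subst this
    exact ⟨⟨u, hu⟩, hQ (Subgroup.mem_zpowers _), rfl⟩

/-- Elements of a nilpotent subgroup which are a `p`-element and a `2`-element (`p ≠ 2`) commute. -/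
theorem ncov_commute (p : ℕ) [Fact p.Prime] (hp2 : p ≠ 2) (A : Subgroup K) (hA : Group.IsNilpotent ↥A)
    (u y : K) (hu : u ∈ A) (hy : y ∈ A) (hup : ∃ m, u ^ (p ^ m) = 1) (hy2 : y * y = 1) : u * y = y * u := by
  have : Fact (Nat.Prime 2) := ⟨Nat.prime_two⟩
  obtain ⟨P, hPA, hP, hPn, hPall⟩ := ncov_exists_sylow p A hA
  obtain ⟨Q, hQA, hQ, hQn, hQall⟩ := ncov_exists_sylow 2 A hA
  have huP : u ∈ P := hPall u hu hup
  have hyQ : y ∈ Q := hQall y hy ⟨1, by rw [pow_one, pow_two, hy2]⟩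
  have hdisj : Disjoint P Q := IsPGroup.disjoint_of_ne p 2 hp2 P Q hP hQ
  have hc : u * y * u⁻¹ * y⁻¹ ∈ P ⊓ Q := by
    refine ⟨?_, ?_⟩
    · have h1 : y * u⁻¹ * y⁻¹ ∈ P := hPn y hy _ (P.inv_mem huP)
      have : u * y * u⁻¹ * y⁻¹ = u * (y * u⁻¹ * y⁻¹) := by group
      rw [this]
      exact P.mul_mem huP h1
    · exact Q.mul_mem (hQn u hu y hyQ) (Q.inv_mem hyQ)
  rw [hdisj.eq_bot, Subgroup.mem_bot] at hc
  have : u * y = (u * y * u⁻¹ * y⁻¹) * (y * u) := by group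
  rw [this, hc, one_mul]

variable {Ω : Type*} [MulAction K Ω] [Fintype Ω]

/-- **LEMMA N.** -/
theorem ncov_lemmaN (p : ℕ) [Fact p.Prime] (hΩ : Fintype.card Ω ≡ 1 [MOD p])
    (A : Subgroup K) (hA : Group.IsNilpotent ↥A) (u : K) (huA : u ∈ A) (hu : ∃ m, u ^ (p ^ m) = 1)
    (ω : Ω) (hfix : ∀ c : Ω, u • c = c ↔ c = ω) : ∀ a ∈ A, a • ω = ω := by
  obtain ⟨P, hPA, hP, hPn, hPall⟩ := ncov_exists_sylow p A hA
  have huP : u ∈ P := hPall u huA hu
  -- `P` has a fixed point, which must be `ω`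
  have hmod := hP.card_modEq_card_fixedPoints Ω
  rw [Nat.card_eq_fintype_card] at hmod
  have hne : Nat.card ↑(MulAction.fixedPoints ↥P Ω) ≠ 0 := by
    intro h0
    rw [h0] at hmod
    have h1 : (1 : ℕ) ≡ 0 [MOD p] := hΩ.symm.trans hmod
    have : p ∣ 1 := (Nat.modEq_zero_iff_dvd.1 h1)
    exact (Fact.out : p.Prime).one_lt.ne' (Nat.dvd_one.1 this)
  have hnonempty : Nonempty ↑(MulAction.fixedPoints ↥P Ω) := by
    by_contra h
    rw [not_nonempty_iff] at h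
    exact hne Nat.card_of_isEmpty
  obtain ⟨⟨c, hc⟩⟩ := hnonempty
  have hcω : c = ω := (hfix c).1 (hc ⟨u, huP⟩)
  subst hcω
  intro a ha
  -- `a • c` is again fixed by `P`, hence by `u`
  apply (hfix _).1
  have h1 : a⁻¹ * u * a⁻¹⁻¹ ∈ P := hPn a⁻¹ (A.inv_mem ha) u huP
  have h2 : (a⁻¹ * u * a⁻¹⁻¹) • c = c := hc ⟨_, h1⟩
  calc u • a • c = a • ((a⁻¹ * u * a⁻¹⁻¹) • c) := by
        simp only [← mul_smul]; congr 1; group
    _ = a • c := by rw [h2]

end Nilp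

section T3

variable {K : Type*} [Group K] [Finite K]

open Classical in
/-- **T3** (the case `n ≥ 3`): two actions (points, hyperplanes), `p`-elements with a unique fixed point in each. -/
theorem ncov_T3 {Ω Ω' : Type*} [Fintype Ω] [Fintype Ω'] [MulAction K Ω] [MulAction K Ω']
    (p : ℕ) [Fact p.Prime] (hΩ : Fintype.card Ω ≡ 1 [MOD p]) (hΩ' : Fintype.card Ω' ≡ 1 [MOD p])
    (hprop : ∀ ω : Ω, ∃ k : K, k • ω ≠ ω)
    {I : Type*} [Fintype I] (x : I → K) (π : I → Ω) (π' : I → Ω')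
    (hx : ∀ i, ∃ m, (x i) ^ (p ^ m) = 1)
    (hfix : ∀ i ω, x i • ω = ω ↔ ω = π i) (hfix' : ∀ i η, x i • η = η ↔ η = π' i)
    (hinj : ∀ i j, π i = π j → π' i = π' j → i = j)
    (hcard : Fintype.card Ω < Fintype.card I) :
    ¬ ∃ 𝓐 : Finset (Subgroup K), ((∀ A ∈ 𝓐, A ≠ ⊤) ∧ (∀ g : K, ∃ A ∈ 𝓐, g ∈ A)) ∧
      (∀ 𝓑 : Finset (Subgroup K), (∀ A ∈ 𝓑, A ≠ ⊤) ∧ (∀ g : K, ∃ A ∈ 𝓑, g ∈ A) → 𝓐.card ≤ 𝓑.card) ∧
      (∀ A ∈ 𝓐, Group.IsNilpotent ↥A) := by
  refine ncov_main (Finset.univ.image fun ω : Ω => MulAction.stabilizer K ω) ?_ x ?_ ?_ ?_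
  · intro R hR
    rw [Finset.mem_image] at hR
    obtain ⟨ω, _, rfl⟩ := hR
    obtain ⟨k, hk⟩ := hprop ω
    intro h
    apply hk
    have : k ∈ MulAction.stabilizer K ω := by rw [h]; trivial
    exact this
  · exact lt_of_le_of_lt (Finset.card_image_le.trans (by rw [Finset.card_univ])) hcard
  · intro A hA i hi a ha
    refine ⟨MulAction.stabilizer K (π i), Finset.mem_image.2 ⟨π i, Finset.mem_univ _, rfl⟩, ?_⟩
    exact ncov_lemmaN p hΩ A hA (x i) hi (hx i) (π i) (hfix i) a ha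
  · intro A hA i j hi hj
    have h1 := ncov_lemmaN p hΩ A hA (x i) hi (hx i) (π i) (hfix i) (x j) hj
    have h2 := ncov_lemmaN p hΩ' A hA (x i) hi (hx i) (π' i) (hfix' i) (x j) hj
    exact hinj i j ((hfix j _).1 h1) ((hfix' j _).1 h2)

end T3

end Cfsg.Agent.NCov
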