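import Mathlib

/-!
# S3894 (swarm "NCov"): the projective general linear group in the shape of the statement, its action on the points
and on the hyperplanes of projective space, and incidence.

* `ncov_Γ n F = GL (Fin n) F ⧸ Subgroup.center (GL (Fin n) F)` acts on `ncov_Pt n F = ℙ F (Fin n → F)` (Mathlib's action of
  `PGL`), `ncov_mk_smul_mk`.
* `ncov_sl n F : SL →* Γ`, `ncov_sl_smul`, `ncov_sl_range`.
* `ncov_Hyp n F`: a copy of `ℙ F (Fin n → F)` (a hyperplane is given by a non-zero covector up to scalars), on which `Γ` acts through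
  the inverse-transpose automorphism `ncov_dual`.
* `ncov_inc ω H`: the point `ω` lies on the hyperplane `H`; `ncov_inc_smul`: incidence is `Γ`-invariant.
-/

set_option autoImplicit false

namespace Cfsg.Agent.NCov

open scoped LinearAlgebra.Projectivization MatrixGroups
open Matrix

variable {F : Type*} [Field F] {n : ℕ}

/-- `PGL_n(F)` in the shape of the statement. -/
abbrev ncov_Γ (n : ℕ) (F : Type*) [Field F] : Type _ :=
  GL (Fin n) F ⧸ Subgroup.center (GL (Fin n) F)

/-- The points of projective space. -/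
abbrev ncov_Pt (n : ℕ) (F : Type*) [Field F] : Type _ := ℙ F (Fin n → F)

noncomputable instance ncov_instPt : MulAction (ncov_Γ n F) (ncov_Pt n F) :=
  inferInstanceAs (MulAction PGL(Fin n, F) (ℙ F (Fin n → F)))

theorem ncov_mk_smul_mk (g : GL (Fin n) F) {v : Fin n → F} (hv : v ≠ 0) :
    ((QuotientGroup.mk g : ncov_Γ n F)) • (Projectivization.mk F v hv : ncov_Pt n F) =
      Projectivization.mk F (g • v) ((smul_ne_zero_iff_ne g).2 hv) := rfl

theorem ncov_gl_smul (g : GL (Fin n) F) (v : Fin n → F) :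
    g • v = (g : Matrix (Fin n) (Fin n) F).mulVec v := rfl

/-- The natural map `SL_n(F) → PGL_n(F)`. -/
def ncov_sl (n : ℕ) (F : Type*) [Field F] : SpecialLinearGroup (Fin n) F →* ncov_Γ n F :=
  (QuotientGroup.mk' (Subgroup.center (GL (Fin n) F))).comp SpecialLinearGroup.toGL

theorem ncov_sl_apply (g : SpecialLinearGroup (Fin n) F) :
    ncov_sl n F g = (QuotientGroup.mk (SpecialLinearGroup.toGL g) : ncov_Γ n F) := rfl

/-- The range of `ncov_sl` is the subgroup in the hypothesis of the statement. -/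
theorem ncov_sl_range :
    (ncov_sl n F).range =
      ((SpecialLinearGroup.toGL : SpecialLinearGroup (Fin n) F →* GL (Fin n) F).range).map
        (QuotientGroup.mk' (Subgroup.center (GL (Fin n) F))) := by
  unfold ncov_sl
  rw [MonoidHom.range_comp]

theorem ncov_sl_smul (g : SpecialLinearGroup (Fin n) F) (x : ncov_Pt n F) :
    ncov_sl n F g • x = g • x := by
  induction x using Projectivization.ind with | _ v hv => rfl

/-! ### The inverse-transpose automorphism and the action on hyperplanes -/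

/-- `g ↦ (g⁻¹)ᵀ` on `GL_n(F)`. -/
def ncov_invT (n : ℕ) (F : Type*) [Field F] : GL (Fin n) F →* GL (Fin n) F where
  toFun g := ⟨((g⁻¹ : GL (Fin n) F) : Matrix (Fin n) (Fin n) F)ᵀ, (g : Matrix (Fin n) (Fin n) F)ᵀ,
    by rw [← Matrix.transpose_mul, ← Units.val_mul, mul_inv_cancel, Units.val_one, Matrix.transpose_one],
    by rw [← Matrix.transpose_mul, ← Units.val_mul, inv_mul_cancel, Units.val_one, Matrix.transpose_one]⟩
  map_one' := by
    apply Units.ext
    simp
  map_mul' g h := by
    apply Units.ext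
    simp [Matrix.transpose_mul]

theorem ncov_invT_coe (g : GL (Fin n) F) :
    ((ncov_invT n F g : GL (Fin n) F) : Matrix (Fin n) (Fin n) F) =
      ((g⁻¹ : GL (Fin n) F) : Matrix (Fin n) (Fin n) F)ᵀ := rfl

theorem ncov_invT_invT (g : GL (Fin n) F) : ncov_invT n F (ncov_invT n F g) = g := by
  apply Units.ext
  rw [ncov_invT_coe, ← map_inv, ncov_invT_coe, inv_inv, Matrix.transpose_transpose]

theorem ncov_invT_center : Subgroup.center (GL (Fin n) F) ≤
    (Subgroup.center (GL (Fin n) F)).comap (ncov_invT n F) := by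
  intro z hz
  rw [Subgroup.mem_comap, Subgroup.mem_center_iff]
  intro h
  have hz' := Subgroup.mem_center_iff.mp hz (ncov_invT n F h)
  have := congrArg (ncov_invT n F) hz'
  rw [map_mul, map_mul, ncov_invT_invT] at this
  exact this

/-- The automorphism of `PGL_n(F)` induced by inverse-transpose. -/
def ncov_dual (n : ℕ) (F : Type*) [Field F] : ncov_Γ n F →* ncov_Γ n F :=
  QuotientGroup.map _ _ (ncov_invT n F) ncov_invT_center

theorem ncov_dual_mk (g : GL (Fin n) F) :
    ncov_dual n F (QuotientGroup.mk g : ncov_Γ n F) = (QuotientGroup.mk (ncov_invT n F g) : ncov_Γ n F) := rfl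

theorem ncov_dual_dual (γ : ncov_Γ n F) : ncov_dual n F (ncov_dual n F γ) = γ := by
  induction γ using QuotientGroup.induction_on with | _ g =>
  rw [ncov_dual_mk, ncov_dual_mk, ncov_invT_invT]

/-- The hyperplanes of projective space: a copy of `ℙ F (Fin n → F)` (the class of a non-zero `w` stands for the hyperplane
`{v | v ⬝ᵥ w = 0}`). -/
def ncov_Hyp (n : ℕ) (F : Type*) [Field F] : Type _ := ℙ F (Fin n → F)

/-- The hyperplane of a non-zero covector. -/
def ncov_hmk {w : Fin n → F} (hw : w ≠ 0) : ncov_Hyp n F := Projectivization.mk F w hw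

/-- The underlying point of the dual space. -/
def ncov_Hyp.toPt (H : ncov_Hyp n F) : ncov_Pt n F := H

/-- Back. -/
def ncov_Hyp.ofPt (x : ncov_Pt n F) : ncov_Hyp n F := x

noncomputable instance ncov_instHyp : MulAction (ncov_Γ n F) (ncov_Hyp n F) :=
  MulAction.compHom (ncov_Pt n F) (ncov_dual n F)

theorem ncov_hyp_smul_def (γ : ncov_Γ n F) (H : ncov_Hyp n F) :
    γ • H = ncov_Hyp.ofPt (ncov_dual n F γ • H.toPt) := rfl

theorem ncov_mk_smul_hmk (g : GL (Fin n) F) {w : Fin n → F} (hw : w ≠ 0) :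
    ((QuotientGroup.mk g : ncov_Γ n F)) • (ncov_hmk hw : ncov_Hyp n F) =
      ncov_hmk (w := ncov_invT n F g • w) ((smul_ne_zero_iff_ne _).2 hw) := rfl

theorem ncov_Hyp.ind {motive : ncov_Hyp n F → Prop}
    (h : ∀ (w : Fin n → F) (hw : w ≠ 0), motive (ncov_hmk hw)) (H : ncov_Hyp n F) : motive H :=
  Projectivization.ind (P := motive) h H

theorem ncov_hmk_eq_iff {w w' : Fin n → F} (hw : w ≠ 0) (hw' : w' ≠ 0) :
    (ncov_hmk hw : ncov_Hyp n F) = ncov_hmk hw' ↔ ∃ a : Fˣ, a • w' = w :=
  Projectivization.mk_eq_mk_iff F w w' hw hw'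

instance ncov_instFiniteHyp [Finite F] : Finite (ncov_Hyp n F) :=
  inferInstanceAs (Finite (ℙ F (Fin n → F)))

theorem ncov_card_Hyp : Nat.card (ncov_Hyp n F) = Nat.card (ncov_Pt n F) := rfl

/-! ### Incidence -/

/-- The point `ω` lies on the hyperplane `H`. -/
def ncov_inc (ω : ncov_Pt n F) (H : ncov_Hyp n F) : Prop :=
  ω.rep ⬝ᵥ Projectivization.rep (H.toPt) = 0

theorem ncov_inc_mk {v w : Fin n → F} (hv : v ≠ 0) (hw : w ≠ 0) :
    ncov_inc (Projectivization.mk F v hv : ncov_Pt n F) (ncov_hmk hw) ↔ v ⬝ᵥ w = 0 := by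
  unfold ncov_inc
  obtain ⟨a, ha⟩ := Projectivization.exists_smul_eq_mk_rep F v hv
  obtain ⟨b, hb⟩ := Projectivization.exists_smul_eq_mk_rep F w hw
  have hb' : (ncov_hmk hw : ncov_Hyp n F).toPt.rep = b • w := hb.symm
  rw [hb', ← ha]
  rw [Units.smul_def, Units.smul_def, smul_dotProduct, dotProduct_smul, smul_smul]
  rw [smul_eq_mul, mul_eq_zero]
  constructor
  · rintro (h | h)
    · exfalso
      rcases mul_eq_zero.mp h with h | h
      · exact a.ne_zero h
      · exact b.ne_zero h
    · exact h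
  · intro h
    exact Or.inr h

/-- Incidence is invariant under `PGL_n(F)`. -/
theorem ncov_inc_smul (γ : ncov_Γ n F) (ω : ncov_Pt n F) (H : ncov_Hyp n F) :
    ncov_inc (γ • ω) (γ • H) ↔ ncov_inc ω H := by
  induction γ using QuotientGroup.induction_on with | _ g =>
  induction ω using Projectivization.ind with | _ v hv =>
  induction H using ncov_Hyp.ind with | _ w hw =>
  rw [ncov_mk_smul_mk, ncov_mk_smul_hmk, ncov_inc_mk, ncov_inc_mk]
  have key : (g • v) ⬝ᵥ (ncov_invT n F g • w) = v ⬝ᵥ w := by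
    rw [ncov_gl_smul, ncov_gl_smul, ncov_invT_coe, Matrix.mulVec_transpose, dotProduct_comm,
      ← Matrix.dotProduct_mulVec, Matrix.mulVec_mulVec, ← Units.val_mul, inv_mul_cancel,
      Units.val_one, Matrix.one_mulVec, dotProduct_comm]
  rw [key]

end Cfsg.Agent.NCov
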