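import Mathlib
import Cfsg.Agent.NCov.Defs

/-!
# S3894 (swarm "NCov"), piece [P]: the actions of a group `PSL_n(F) ≤ G ≤ PGL_n(F)` on points and hyperplanes

In the hypothesis shapes of `NCov/Abs.lean` (`K := ↥G`): cardinalities `≡ 1 [MOD p]`, transitivity, 2-transitivity on points,
properness of the point/hyperplane stabilisers.
-/

set_option autoImplicit false

namespace Cfsg.Agent.NCov

open scoped LinearAlgebra.Projectivization MatrixGroups
open Matrix

variable {F : Type*} [Field F] {n : ℕ}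

noncomputable instance ncov_instFintypePt [Fintype F] : Fintype (ncov_Pt n F) := Fintype.ofFinite _

noncomputable instance ncov_instFintypeHyp [Fintype F] : Fintype (ncov_Hyp n F) := Fintype.ofFinite _

/-! ### Cardinalities -/

theorem ncov_natCard_Pt [Fintype F] :
    Nat.card (ncov_Pt n F) = ∑ i ∈ Finset.range n, Fintype.card F ^ i := by
  have h := Projectivization.card_of_finrank F (Fin n → F) (n := n) (by simp)
  rw [h, Nat.card_eq_fintype_card]

theorem ncov_char_dvd_card [Fintype F] (p : ℕ) [CharP F p] : p ∣ Fintype.card F := by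
  rw [← CharP.cast_eq_zero_iff F p]
  exact Nat.cast_card_eq_zero F

theorem ncov_natCard_Pt_modEq [Fintype F] (p : ℕ) [CharP F p] (hn : 1 ≤ n) :
    Nat.card (ncov_Pt n F) ≡ 1 [MOD p] := by
  rw [ncov_natCard_Pt]
  obtain ⟨m, rfl⟩ : ∃ m, n = m + 1 := ⟨n - 1, by omega⟩
  rw [Finset.sum_range_succ', pow_zero]
  have hd := ncov_char_dvd_card (F := F) p
  have h0 : ∑ i ∈ Finset.range m, Fintype.card F ^ (i + 1) ≡ 0 [MOD p] := by
    rw [Nat.modEq_zero_iff_dvd]
    apply Finset.dvd_sum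
    intro i _
    exact dvd_trans hd (dvd_pow_self _ (Nat.succ_ne_zero i))
  simpa using h0.add_right 1

/-- `hΩ` of `ncov_T3`/`ncov_T2` for the points (any `Fintype` instance). -/
theorem ncov_card_Pt_modEq [Fintype F] (p : ℕ) [CharP F p] (hn : 1 ≤ n) [inst : Fintype (ncov_Pt n F)] :
    Fintype.card (ncov_Pt n F) ≡ 1 [MOD p] := by
  rw [← Nat.card_eq_fintype_card]
  exact ncov_natCard_Pt_modEq p hn

/-- `hΩ'` of `ncov_T3` for the hyperplanes (any `Fintype` instance). -/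
theorem ncov_card_Hyp_modEq [Fintype F] (p : ℕ) [CharP F p] (hn : 1 ≤ n) [inst : Fintype (ncov_Hyp n F)] :
    Fintype.card (ncov_Hyp n F) ≡ 1 [MOD p] := by
  rw [← Nat.card_eq_fintype_card, ncov_card_Hyp]
  exact ncov_natCard_Pt_modEq p hn

/-- For `n = 2` there are `q + 1` points. -/
theorem ncov_card_Pt_two [Fintype F] [inst : Fintype (ncov_Pt 2 F)] :
    Fintype.card (ncov_Pt 2 F) = Fintype.card F + 1 := by
  rw [← Nat.card_eq_fintype_card, ncov_natCard_Pt]
  simp [Finset.sum_range_succ, add_comm]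

/-- For `n ≥ 2` there are at least `q + 1 ≥ 3` points. -/
theorem ncov_three_le_card_Pt [Fintype F] (hn : 2 ≤ n) [inst : Fintype (ncov_Pt n F)] :
    3 ≤ Fintype.card (ncov_Pt n F) := by
  rw [← Nat.card_eq_fintype_card, ncov_natCard_Pt]
  obtain ⟨m, rfl⟩ : ∃ m, n = m + 2 := ⟨n - 2, by omega⟩
  rw [Finset.sum_range_succ', Finset.sum_range_succ', pow_zero]
  have hq : 2 ≤ Fintype.card F := Fintype.one_lt_card
  have : Fintype.card F ^ (0 + 1) = Fintype.card F := by simp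
  rw [this]
  omega

/-! ### The image of `SL_n(F)` -/

/-- The statement's hypothesis gives `range ncov_sl ≤ G`. -/
theorem ncov_range_le_of_hyp {G : Subgroup (ncov_Γ n F)}
    (hG : ((SpecialLinearGroup.toGL : SpecialLinearGroup (Fin n) F →* GL (Fin n) F).range).map
      (QuotientGroup.mk' (Subgroup.center (GL (Fin n) F))) ≤ G) : (ncov_sl n F).range ≤ G := by
  rw [ncov_sl_range]
  exact hG

theorem ncov_sl_mem {G : Subgroup (ncov_Γ n F)} (hG : (ncov_sl n F).range ≤ G)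
    (g : SpecialLinearGroup (Fin n) F) : ncov_sl n F g ∈ G := hG ⟨g, rfl⟩

/-- 2-transitivity of `SL_n(F)` on the points. -/
theorem ncov_sl_two_trans {a b c d : ncov_Pt n F} (hab : a ≠ b) (hcd : c ≠ d) :
    ∃ g : SpecialLinearGroup (Fin n) F, g • a = c ∧ g • b = d :=
  (MulAction.is_two_pretransitive_iff (G := SpecialLinearGroup (Fin n) F) (α := ℙ F (Fin n → F))).1
    inferInstance hab hcd

/-- Transitivity of `SL_n(F)` on the points. -/
theorem ncov_sl_trans (a b : ncov_Pt n F) : ∃ g : SpecialLinearGroup (Fin n) F, g • a = b := by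
  by_cases h : a = b
  · exact ⟨1, by rw [one_smul, h]⟩
  · obtain ⟨g, hg, _⟩ := ncov_sl_two_trans h (Ne.symm h)
    exact ⟨g, hg⟩

theorem ncov_invT_toGL (g : SpecialLinearGroup (Fin n) F) :
    ncov_invT n F (SpecialLinearGroup.toGL g) = SpecialLinearGroup.toGL ((g⁻¹).transpose) := by
  apply Units.ext
  rw [ncov_invT_coe, ← map_inv]
  rfl

/-- The dual of the image of `g ∈ SL_n(F)` is the image of `(g⁻¹)ᵀ`. -/
theorem ncov_dual_sl (g : SpecialLinearGroup (Fin n) F) :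
    ncov_dual n F (ncov_sl n F g) = ncov_sl n F (g⁻¹).transpose := by
  rw [ncov_sl_apply, ncov_dual_mk, ncov_sl_apply, ncov_invT_toGL]

theorem ncov_transpose_inv_invol (h : SpecialLinearGroup (Fin n) F) :
    (((h⁻¹).transpose)⁻¹).transpose = h := by
  apply SpecialLinearGroup.toGL_injective
  rw [← ncov_invT_toGL, ← ncov_invT_toGL, ncov_invT_invT]

theorem ncov_sl_transpose_inv_smul (h : SpecialLinearGroup (Fin n) F) (H : ncov_Hyp n F) :
    ncov_sl n F ((h⁻¹).transpose) • H = ncov_Hyp.ofPt (h • H.toPt) := by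
  rw [ncov_hyp_smul_def, ncov_dual_sl, ncov_sl_smul, ncov_transpose_inv_invol]

/-! ### The group `G` -/

section G

variable {G : Subgroup (ncov_Γ n F)} (hG : (ncov_sl n F).range ≤ G)

include hG

/-- `htrans` for the points. -/
theorem ncov_trans_Pt (a b : ncov_Pt n F) : ∃ k : ↥G, k • a = b := by
  obtain ⟨g, hg⟩ := ncov_sl_trans a b
  refine ⟨⟨ncov_sl n F g, ncov_sl_mem hG g⟩, ?_⟩
  rw [Subgroup.smul_def]
  change ncov_sl n F g • a = b
  rw [ncov_sl_smul, hg]

/-- 2-transitivity on the points. -/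
theorem ncov_two_trans_Pt {a b c d : ncov_Pt n F} (hab : a ≠ b) (hcd : c ≠ d) :
    ∃ k : ↥G, k • a = c ∧ k • b = d := by
  obtain ⟨g, hg1, hg2⟩ := ncov_sl_two_trans hab hcd
  refine ⟨⟨ncov_sl n F g, ncov_sl_mem hG g⟩, ?_, ?_⟩
  · rw [Subgroup.smul_def]
    change ncov_sl n F g • a = c
    rw [ncov_sl_smul, hg1]
  · rw [Subgroup.smul_def]
    change ncov_sl n F g • b = d
    rw [ncov_sl_smul, hg2]

/-- `htrans` for the hyperplanes. -/
theorem ncov_trans_Hyp (H H' : ncov_Hyp n F) : ∃ k : ↥G, k • H = H' := by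
  obtain ⟨h, hh⟩ := ncov_sl_trans H.toPt H'.toPt
  refine ⟨⟨ncov_sl n F ((h⁻¹).transpose), ncov_sl_mem hG _⟩, ?_⟩
  rw [Subgroup.smul_def]
  change ncov_sl n F ((h⁻¹).transpose) • H = H'
  rw [ncov_sl_transpose_inv_smul, hh]
  rfl

/-- `hprop` for the points: no point is fixed by all of `G` (`n ≥ 2`). -/
theorem ncov_hprop_Pt [Fintype F] (hn : 2 ≤ n) (ω : ncov_Pt n F) : ∃ k : ↥G, k • ω ≠ ω := by
  classical
  have h3 : 3 ≤ Fintype.card (ncov_Pt n F) := ncov_three_le_card_Pt hn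
  obtain ⟨ω', hω'⟩ : ∃ ω' : ncov_Pt n F, ω' ≠ ω := by
    by_contra hcon
    push Not at hcon
    have : Fintype.card (ncov_Pt n F) ≤ 1 :=
      Fintype.card_le_one_iff.2 (fun a b => (hcon a).trans (hcon b).symm)
    omega
  obtain ⟨k, hk⟩ := ncov_trans_Pt hG ω ω'
  exact ⟨k, by rw [hk]; exact hω'⟩

/-- `hprop` for the hyperplanes (`n ≥ 2`). -/
theorem ncov_hprop_Hyp [Fintype F] (hn : 2 ≤ n) (H : ncov_Hyp n F) : ∃ k : ↥G, k • H ≠ H := by
  classical
  have h3 : 3 ≤ Fintype.card (ncov_Pt n F) := ncov_three_le_card_Pt hn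
  obtain ⟨ω', hω'⟩ : ∃ ω' : ncov_Pt n F, ω' ≠ H.toPt := by
    by_contra hcon
    push Not at hcon
    have : Fintype.card (ncov_Pt n F) ≤ 1 :=
      Fintype.card_le_one_iff.2 (fun a b => (hcon a).trans (hcon b).symm)
    omega
  obtain ⟨k, hk⟩ := ncov_trans_Hyp hG H (ncov_Hyp.ofPt ω')
  exact ⟨k, by rw [hk]; exact hω'⟩

/-- Point stabilisers are proper subgroups (`n ≥ 2`). -/
theorem ncov_stabilizer_ne_top [Fintype F] (hn : 2 ≤ n) (ω : ncov_Pt n F) :
    MulAction.stabilizer ↥G ω ≠ ⊤ := by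
  obtain ⟨k, hk⟩ := ncov_hprop_Pt hG hn ω
  intro h
  apply hk
  have : k ∈ MulAction.stabilizer ↥G ω := by rw [h]; trivial
  exact this

end G

/-- The action of `k : ↥G` is the action of its image in `PGL_n(F)`. -/
theorem ncov_coe_smul_Pt {G : Subgroup (ncov_Γ n F)} (k : ↥G) (ω : ncov_Pt n F) :
    k • ω = (k : ncov_Γ n F) • ω := rfl

theorem ncov_coe_smul_Hyp {G : Subgroup (ncov_Γ n F)} (k : ↥G) (H : ncov_Hyp n F) :
    k • H = (k : ncov_Γ n F) • H := rfl

end Cfsg.Agent.NCov
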