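import Mathlib
import Cfsg.Agent.NCov.Defs

/-!
# NCov (S3894): the single Jordan block `J = 1 + Σ E_{i,i+1}` in `SL_n(F)`

* `ncov_J n F : SL_n(F)`; `ncov_J_pow`: `J ^ p ^ k = 1` when `char F = p`, `n ≤ p ^ k`.
* `ncov_J_fix_pt`: the only point of projective space fixed by `J` is `[e_0]`.
* `ncov_J_fix_hyp`: the only hyperplane fixed by `J` is `H₀ = [e_{n-1}]` (i.e. `x_{n-1} = 0`).
* `ncov_J_s`: a transvection `s ∈ SL_n(F)` (`3 ≤ n`) fixing `[e_0]` and moving `H₀`.
-/

set_option autoImplicit false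

namespace Cfsg.Agent.NCov

open scoped LinearAlgebra.Projectivization MatrixGroups
open Matrix

variable {F : Type*} [Field F] {n : ℕ}

/-- The shift matrix `N = Σ E_{i,i+1}`. -/
def ncov_J_N (n : ℕ) (F : Type*) [Field F] : Matrix (Fin n) (Fin n) F :=
  Matrix.of fun i j => if j.val = i.val + 1 then 1 else 0

/-- The Jordan block `1 + N`. -/
def ncov_J_mat (n : ℕ) (F : Type*) [Field F] : Matrix (Fin n) (Fin n) F := 1 + ncov_J_N n F

theorem ncov_J_N_apply (i j : Fin n) : ncov_J_N n F i j = if j.val = i.val + 1 then 1 else 0 := rfl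

theorem ncov_J_mat_sub_one : ncov_J_mat n F - 1 = ncov_J_N n F := by simp [ncov_J_mat]

theorem ncov_J_mat_upper : (ncov_J_mat n F).IsUpperTriangular := by
  intro i j hij
  have hij' : j.val < i.val := hij
  have h1 : i ≠ j := fun h => by subst h; omega
  have h2 : ¬ j.val = i.val + 1 := by omega
  simp [ncov_J_mat, ncov_J_N_apply, Matrix.one_apply, h1, h2]

theorem ncov_J_mat_diag (i : Fin n) : ncov_J_mat n F i i = 1 := by
  simp [ncov_J_mat, ncov_J_N_apply]

theorem ncov_J_det : (ncov_J_mat n F).det = 1 := by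
  rw [Matrix.det_of_isUpperTriangular ncov_J_mat_upper]
  simp [ncov_J_mat_diag]

/-- The Jordan block as an element of `SL_n(F)`. -/
def ncov_J (n : ℕ) (F : Type*) [Field F] : SpecialLinearGroup (Fin n) F := ⟨ncov_J_mat n F, ncov_J_det⟩

theorem ncov_J_coe : ((ncov_J n F : SpecialLinearGroup (Fin n) F) : Matrix (Fin n) (Fin n) F) = ncov_J_mat n F := rfl

/-- `N ^ n = 0` (Cayley–Hamilton for the unitriangular `J`). -/
theorem ncov_J_N_pow : (ncov_J_N n F) ^ n = 0 := by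
  have h := Matrix.aeval_self_charpoly (ncov_J_mat n F)
  rw [Matrix.charpoly_of_isUpperTriangular _ ncov_J_mat_upper] at h
  simp only [ncov_J_mat_diag, map_one, Finset.prod_const, Finset.card_univ, Fintype.card_fin, map_pow, map_sub,
    Polynomial.aeval_X] at h
  rw [ncov_J_mat_sub_one] at h
  exact h

/-- `J ^ p ^ k = 1` in characteristic `p` when `n ≤ p ^ k`. -/
theorem ncov_J_mat_pow (p : ℕ) [Fact p.Prime] [CharP F p] (k : ℕ) (hk : n ≤ p ^ k) :
    ncov_J_mat n F ^ p ^ k = 1 := by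
  rcases Nat.eq_zero_or_pos n with hn | hn
  · subst hn; exact Subsingleton.elim _ _
  haveI : Nonempty (Fin n) := ⟨⟨0, hn⟩⟩
  have h1 : (ncov_J_mat n F - 1) ^ p ^ k = ncov_J_mat n F ^ p ^ k - 1 ^ p ^ k :=
    sub_pow_char_pow_of_commute p k (Commute.one_right _)
  have h2 : (ncov_J_mat n F - 1) ^ p ^ k = 0 := by
    rw [ncov_J_mat_sub_one, ← Nat.sub_add_cancel hk, pow_add, ncov_J_N_pow, mul_zero]
  rw [h2, one_pow] at h1
  exact sub_eq_zero.mp h1.symm

theorem ncov_J_pow (p : ℕ) [Fact p.Prime] [CharP F p] (k : ℕ) (hk : n ≤ p ^ k) :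
    ncov_J n F ^ p ^ k = 1 := by
  apply Matrix.SpecialLinearGroup.ext
  intro i j
  have h := (Matrix.SpecialLinearGroup.coe_pow (ncov_J n F) (p ^ k)).trans (ncov_J_mat_pow p k hk)
  exact congrFun (congrFun h i) j

/-- `J` is a `p`-element. -/
theorem ncov_J_pElement (p : ℕ) [Fact p.Prime] [CharP F p] : ∃ k : ℕ, ncov_J n F ^ p ^ k = 1 :=
  ⟨n, ncov_J_pow p n (Nat.le_of_lt (Nat.lt_pow_self (Fact.out : p.Prime).one_lt))⟩

/-! ### eigenvectors -/

theorem ncov_J_N_mulVec (v : Fin n → F) (i : Fin n) :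
    (ncov_J_N n F *ᵥ v) i = if h : i.val + 1 < n then v ⟨i.val + 1, h⟩ else 0 := by
  simp only [Matrix.mulVec, dotProduct, ncov_J_N_apply]
  split_ifs with h
  · rw [Finset.sum_eq_single (⟨i.val + 1, h⟩ : Fin n)]
    · simp
    · intro j _ hj
      have : ¬ j.val = i.val + 1 := fun h' => hj (Fin.ext h')
      simp [this]
    · simp
  · apply Finset.sum_eq_zero
    intro j _
    have : ¬ j.val = i.val + 1 := by have := j.isLt; omega
    simp [this]

theorem ncov_J_NT_mulVec (w : Fin n → F) (j : Fin n) :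
    ((ncov_J_N n F)ᵀ *ᵥ w) j = if h : 0 < j.val then w ⟨j.val - 1, by have := j.isLt; omega⟩ else 0 := by
  simp only [Matrix.mulVec, dotProduct, Matrix.transpose_apply, ncov_J_N_apply]
  split_ifs with h
  · rw [Finset.sum_eq_single (⟨j.val - 1, by have := j.isLt; omega⟩ : Fin n)]
    · have : j.val = j.val - 1 + 1 := by omega
      simp [← this]
    · intro i _ hi
      have : ¬ j.val = i.val + 1 := fun h' => hi (Fin.ext (by simp; omega))
      simp [this]
    · simp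
  · apply Finset.sum_eq_zero
    intro i _
    have : ¬ j.val = i.val + 1 := by omega
    simp [this]

/-- A nilpotent matrix has no non-zero eigenvalue. -/
theorem ncov_J_nil_eigen {M : Matrix (Fin n) (Fin n) F} (hM : M ^ n = 0) {v : Fin n → F} {d : F} (hv : v ≠ 0)
    (h : M *ᵥ v = d • v) : d = 0 := by
  have hpow : ∀ m : ℕ, (M ^ m) *ᵥ v = d ^ m • v := by
    intro m
    induction m with
    | zero => simp
    | succ m ih =>
      rw [pow_succ, ← Matrix.mulVec_mulVec, h, Matrix.mulVec_smul, ih, smul_smul, pow_succ, mul_comm]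
  have h0 := hpow n
  rw [hM, Matrix.zero_mulVec] at h0
  by_contra hd
  apply hv
  have : d ^ n ≠ 0 := pow_ne_zero _ hd
  exact (smul_eq_zero.mp h0.symm).resolve_left this

/-- Eigenvectors of `J` are multiples of `e_0`. -/
theorem ncov_J_eigen {v : Fin n → F} {c : F} (hv : v ≠ 0) (h : ncov_J_mat n F *ᵥ v = c • v) :
    ∀ i : Fin n, i.val ≠ 0 → v i = 0 := by
  have hN : ncov_J_N n F *ᵥ v = (c - 1) • v := by
    have : ncov_J_mat n F *ᵥ v = v + ncov_J_N n F *ᵥ v := by
      rw [ncov_J_mat, Matrix.add_mulVec, Matrix.one_mulVec]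
    rw [this] at h
    rw [sub_smul, one_smul, ← h]; abel
  have hc : c - 1 = 0 := ncov_J_nil_eigen ncov_J_N_pow hv hN
  rw [hc, zero_smul] at hN
  intro i hi
  have hlt : i.val - 1 + 1 < n := by have := i.isLt; omega
  have := congrFun hN (⟨i.val - 1, by have := i.isLt; omega⟩ : Fin n)
  rw [ncov_J_N_mulVec] at this
  simp only [hlt, dite_true, Pi.zero_apply] at this
  have hi' : (⟨i.val - 1 + 1, hlt⟩ : Fin n) = i := Fin.ext (by simp; omega)
  rw [hi'] at this
  exact this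

/-- Eigenvectors of `Jᵀ` are multiples of `e_{n-1}`. -/
theorem ncov_J_eigenT {w : Fin n → F} {c : F} (hw : w ≠ 0) (h : (ncov_J_mat n F)ᵀ *ᵥ w = c • w) :
    ∀ i : Fin n, i.val + 1 ≠ n → w i = 0 := by
  have hN : (ncov_J_N n F)ᵀ *ᵥ w = (c - 1) • w := by
    have : (ncov_J_mat n F)ᵀ *ᵥ w = w + (ncov_J_N n F)ᵀ *ᵥ w := by
      rw [ncov_J_mat, Matrix.transpose_add, Matrix.transpose_one, Matrix.add_mulVec, Matrix.one_mulVec]
    rw [this] at h
    rw [sub_smul, one_smul, ← h]; abel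
  have hpow : ((ncov_J_N n F)ᵀ) ^ n = 0 := by
    rw [← Matrix.transpose_pow, ncov_J_N_pow, Matrix.transpose_zero]
  have hc : c - 1 = 0 := ncov_J_nil_eigen hpow hw hN
  rw [hc, zero_smul] at hN
  intro i hi
  have hlt : i.val + 1 < n := by have := i.isLt; omega
  have := congrFun hN (⟨i.val + 1, hlt⟩ : Fin n)
  rw [ncov_J_NT_mulVec] at this
  simp only [Nat.succ_pos, dite_true, Pi.zero_apply, Nat.add_sub_cancel] at this
  exact this

theorem ncov_J_mulVec_e0 (hn : 0 < n) :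
    ncov_J_mat n F *ᵥ (Pi.single (⟨0, hn⟩ : Fin n) (1 : F)) = Pi.single (⟨0, hn⟩ : Fin n) (1 : F) := by
  rw [ncov_J_mat, Matrix.add_mulVec, Matrix.one_mulVec]
  have : ncov_J_N n F *ᵥ (Pi.single (⟨0, hn⟩ : Fin n) (1 : F)) = 0 := by
    funext i
    rw [ncov_J_N_mulVec]
    split_ifs with h
    · have : (⟨i.val + 1, h⟩ : Fin n) ≠ ⟨0, hn⟩ := fun h' => by simpa using congrArg Fin.val h'
      simp [this]
    · rfl
  rw [this, add_zero]

theorem ncov_J_T_mulVec_elast (hn : 0 < n) :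
    (ncov_J_mat n F)ᵀ *ᵥ (Pi.single (⟨n - 1, by omega⟩ : Fin n) (1 : F)) =
      Pi.single (⟨n - 1, by omega⟩ : Fin n) (1 : F) := by
  rw [ncov_J_mat, Matrix.transpose_add, Matrix.transpose_one, Matrix.add_mulVec, Matrix.one_mulVec]
  have : (ncov_J_N n F)ᵀ *ᵥ (Pi.single (⟨n - 1, by omega⟩ : Fin n) (1 : F)) = 0 := by
    funext j
    rw [ncov_J_NT_mulVec]
    split_ifs with h
    · have : (⟨j.val - 1, by have := j.isLt; omega⟩ : Fin n) ≠ ⟨n - 1, by omega⟩ := fun h' => by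
        have := congrArg Fin.val h'
        have := j.isLt
        simp at *
        omega
      simp [Pi.single_apply, this]
    · rfl
  rw [this, add_zero]

/-! ### projective forms -/

theorem ncov_J_single_ne (i : Fin n) : (Pi.single i (1 : F) : Fin n → F) ≠ 0 := by
  intro h
  have := congrFun h i
  simp at this

/-- The point `[e_0]`. -/
def ncov_J_p0 (hn : 0 < n) : ncov_Pt n F :=
  Projectivization.mk F (Pi.single (⟨0, hn⟩ : Fin n) (1 : F)) (ncov_J_single_ne _)

/-- The hyperplane `x_{n-1} = 0`, i.e. the class of the covector `e_{n-1}`. -/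
def ncov_J_H0 (hn : 0 < n) : ncov_Hyp n F :=
  ncov_hmk (w := Pi.single (⟨n - 1, by omega⟩ : Fin n) (1 : F)) (ncov_J_single_ne _)

theorem ncov_J_sl_smul_mk (g : SpecialLinearGroup (Fin n) F) {v : Fin n → F} (hv : v ≠ 0) :
    ∃ hv' : (g : Matrix (Fin n) (Fin n) F) *ᵥ v ≠ 0,
      ncov_sl n F g • (Projectivization.mk F v hv : ncov_Pt n F) =
        Projectivization.mk F ((g : Matrix (Fin n) (Fin n) F) *ᵥ v) hv' := by
  refine ⟨?_, ?_⟩
  · have := (smul_ne_zero_iff_ne (SpecialLinearGroup.toGL g)).2 hv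
    exact this
  · rw [ncov_sl_apply, ncov_mk_smul_mk]
    rfl

theorem ncov_J_sl_inv_smul_hmk (g : SpecialLinearGroup (Fin n) F) {w : Fin n → F} (hw : w ≠ 0) :
    ∃ hw' : (g : Matrix (Fin n) (Fin n) F)ᵀ *ᵥ w ≠ 0,
      (ncov_sl n F g)⁻¹ • (ncov_hmk hw : ncov_Hyp n F) =
        ncov_hmk (w := (g : Matrix (Fin n) (Fin n) F)ᵀ *ᵥ w) hw' := by
  have key : ncov_invT n F (SpecialLinearGroup.toGL g)⁻¹ • w = (g : Matrix (Fin n) (Fin n) F)ᵀ *ᵥ w := by
    rw [ncov_gl_smul, ncov_invT_coe, inv_inv]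
    rfl
  refine ⟨?_, ?_⟩
  · rw [← key]
    exact (smul_ne_zero_iff_ne _).2 hw
  · rw [ncov_sl_apply, ← QuotientGroup.mk_inv, ncov_mk_smul_hmk]
    congr 1

/-- The only fixed point of `J` on projective space is `[e_0]`. -/
theorem ncov_J_fix_pt (hn : 0 < n) (ω : ncov_Pt n F) :
    ncov_sl n F (ncov_J n F) • ω = ω ↔ ω = ncov_J_p0 hn := by
  induction ω using Projectivization.ind with | _ v hv =>
  obtain ⟨hv', hsm⟩ := ncov_J_sl_smul_mk (ncov_J n F) hv
  rw [hsm]
  unfold ncov_J_p0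
  rw [Projectivization.mk_eq_mk_iff, Projectivization.mk_eq_mk_iff]
  constructor
  · rintro ⟨a, ha⟩
    have hz := ncov_J_eigen hv (c := (a : F)) (by rw [← Units.smul_def, ha]; rfl)
    have h0 : v ⟨0, hn⟩ ≠ 0 := by
      intro h0
      apply hv
      funext i
      by_cases hi : i.val = 0
      · have : i = ⟨0, hn⟩ := Fin.ext hi
        rw [this, h0]; rfl
      · exact hz i hi
    refine ⟨Units.mk0 _ h0, ?_⟩
    funext i
    by_cases hi : i.val = 0
    · have : i = ⟨0, hn⟩ := Fin.ext hi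
      subst this
      simp [Units.smul_def]
    · have hne : i ≠ ⟨0, hn⟩ := fun h => hi (by rw [h])
      rw [hz i hi]
      simp [Units.smul_def, Pi.single_apply, hne]
  · rintro ⟨a, ha⟩
    refine ⟨1, ?_⟩
    rw [one_smul, ← ha, Units.smul_def, Matrix.mulVec_smul]
    congr 1
    exact (ncov_J_mulVec_e0 (F := F) hn).symm

/-- The only hyperplane fixed by `J` is `x_{n-1} = 0`. -/
theorem ncov_J_fix_hyp (hn : 0 < n) (η : ncov_Hyp n F) :
    ncov_sl n F (ncov_J n F) • η = η ↔ η = ncov_J_H0 hn := by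
  rw [smul_eq_iff_eq_inv_smul]
  induction η using ncov_Hyp.ind with | _ w hw =>
  obtain ⟨hw', hsm⟩ := ncov_J_sl_inv_smul_hmk (ncov_J n F) hw
  rw [hsm]
  unfold ncov_J_H0
  rw [ncov_hmk_eq_iff, ncov_hmk_eq_iff]
  constructor
  · rintro ⟨a, ha⟩
    have hz := ncov_J_eigenT hw (c := ((a⁻¹ : Fˣ) : F)) (by
      have h1 : (ncov_J_mat n F)ᵀ *ᵥ w = ((ncov_J n F : SpecialLinearGroup (Fin n) F) : Matrix (Fin n) (Fin n) F)ᵀ *ᵥ w := rfl
      rw [h1, ← Units.smul_def]
      conv_rhs => rw [← ha]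
      rw [smul_smul, inv_mul_cancel, one_smul])
    have hlast : (n - 1) + 1 = n := by omega
    have h0 : w ⟨n - 1, by omega⟩ ≠ 0 := by
      intro h0
      apply hw
      funext i
      by_cases hi : i.val + 1 = n
      · have : i = ⟨n - 1, by omega⟩ := Fin.ext (by simp; omega)
        rw [this, h0]; rfl
      · exact hz i hi
    refine ⟨Units.mk0 _ h0, ?_⟩
    funext i
    by_cases hi : i.val + 1 = n
    · have : i = ⟨n - 1, by omega⟩ := Fin.ext (by simp; omega)
      rw [this]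
      simp [Units.smul_def]
    · have hne : i ≠ ⟨n - 1, by omega⟩ := fun h => hi (by rw [h]; simp; omega)
      rw [hz i hi]
      simp [Units.smul_def, Pi.single_apply, hne]
  · rintro ⟨a, ha⟩
    refine ⟨1, ?_⟩
    rw [one_smul, ← ha, Units.smul_def, Matrix.mulVec_smul]
    congr 1
    exact (ncov_J_T_mulVec_elast (F := F) hn)

/-! ### the transvection `s` -/

/-- The transvection `1 + E_{n-1,1}` in `SL_n(F)`, `3 ≤ n`. -/
def ncov_J_s (h3 : 3 ≤ n) : SpecialLinearGroup (Fin n) F :=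
  ⟨Matrix.transvection (⟨n - 1, by omega⟩ : Fin n) (⟨1, by omega⟩ : Fin n) (1 : F),
    Matrix.det_transvection_of_ne _ _ (fun h => by have := congrArg Fin.val h; simp at this; omega) _⟩

theorem ncov_J_s_coe (h3 : 3 ≤ n) : ((ncov_J_s h3 : SpecialLinearGroup (Fin n) F) : Matrix (Fin n) (Fin n) F) =
    Matrix.transvection (⟨n - 1, by omega⟩ : Fin n) (⟨1, by omega⟩ : Fin n) (1 : F) := rfl

/-- `s` fixes the point `[e_0]`. -/
theorem ncov_J_s_pt (h3 : 3 ≤ n) :
    ncov_sl n F (ncov_J_s h3) • (ncov_J_p0 (by omega) : ncov_Pt n F) = ncov_J_p0 (by omega) := by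
  unfold ncov_J_p0
  obtain ⟨hv', hsm⟩ := ncov_J_sl_smul_mk (ncov_J_s h3) (ncov_J_single_ne (F := F) (⟨0, by omega⟩ : Fin n))
  rw [hsm, Projectivization.mk_eq_mk_iff]
  refine ⟨1, ?_⟩
  rw [one_smul, ncov_J_s_coe, Matrix.transvection, Matrix.add_mulVec, Matrix.one_mulVec]
  have : Matrix.single (⟨n - 1, by omega⟩ : Fin n) (⟨1, by omega⟩ : Fin n) (1 : F) *ᵥ
      (Pi.single (⟨0, by omega⟩ : Fin n) (1 : F)) = 0 := by
    funext i
    simp only [Matrix.mulVec, dotProduct, Pi.zero_apply]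
    apply Finset.sum_eq_zero
    intro j _
    by_cases hj : j = ⟨0, by omega⟩
    · subst hj
      have : (⟨1, by omega⟩ : Fin n) ≠ ⟨0, by omega⟩ := fun h => by simpa using congrArg Fin.val h
      simp [Matrix.single_apply, this]
    · simp [Pi.single_apply, hj]
  rw [this, add_zero]

/-- `s` moves the hyperplane `x_{n-1} = 0`. -/
theorem ncov_J_s_hyp (h3 : 3 ≤ n) :
    ncov_sl n F (ncov_J_s h3) • (ncov_J_H0 (by omega) : ncov_Hyp n F) ≠ ncov_J_H0 (by omega) := by
  intro h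
  rw [smul_eq_iff_eq_inv_smul] at h
  unfold ncov_J_H0 at h
  obtain ⟨hw', hsm⟩ := ncov_J_sl_inv_smul_hmk (ncov_J_s h3) (ncov_J_single_ne (F := F) (⟨n - 1, by omega⟩ : Fin n))
  rw [hsm, ncov_hmk_eq_iff] at h
  obtain ⟨a, ha⟩ := h
  have h1 := congrFun ha (⟨1, by omega⟩ : Fin n)
  have hne : (⟨1, by omega⟩ : Fin n) ≠ ⟨n - 1, by omega⟩ := fun h => by
    have := congrArg Fin.val h; simp at this; omega
  have hval : (((ncov_J_s h3 : SpecialLinearGroup (Fin n) F) : Matrix (Fin n) (Fin n) F)ᵀ *ᵥ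
      (Pi.single (⟨n - 1, by omega⟩ : Fin n) (1 : F))) (⟨1, by omega⟩ : Fin n) = 1 := by
    rw [ncov_J_s_coe]
    simp only [Matrix.mulVec, dotProduct, Matrix.transpose_apply]
    rw [Finset.sum_eq_single (⟨n - 1, by omega⟩ : Fin n)]
    · simp [Matrix.transvection, Matrix.single_apply, Matrix.one_apply, hne.symm]
    · intro j _ hj
      simp [Pi.single_apply, hj]
    · simp
  rw [Units.smul_def, Pi.smul_apply, hval] at h1
  simp [Pi.single_apply, hne] at h1

end Cfsg.Agent.NCov
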