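import Mathlib

/-!
# NCov: nilpotent-group lemmas for S3894 (package [N])

* `ncov_lemN`: a finite nilpotent group `A` acting on a finite set `Ω` with `|Ω| ≡ 1 mod p`; if a `p`-element
  `u ∈ A` has exactly one fixed point `ω`, then `A` fixes `ω`, and `ω` is the only point fixed by all of `A`.
* `ncov_commute_of_coprime`: in a nilpotent group, elements of coprime orders commute.
* `ncov_exists_central`: a nontrivial nilpotent subgroup has a nontrivial element central in it.
-/

set_option autoImplicit false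

namespace Cfsg.Agent.NCov

open MulAction

/-- LEMMA N, type-level version (`A` any finite nilpotent group acting on `Ω`). -/
theorem ncov_lemN {A Ω : Type*} [Group A] [Finite A] [Group.IsNilpotent A] [MulAction A Ω] [Finite Ω]
    (p : ℕ) [Fact p.Prime] (hcard : Nat.card Ω % p = 1) (u : A) (hu : ∃ k : ℕ, u ^ p ^ k = 1)
    (ω : Ω) (hfix : ∀ x : Ω, u • x = x → x = ω) :
    (∀ a : A, a • ω = ω) ∧ ∀ x : Ω, (∀ a : A, a • x = x) → x = ω := by
  classical
  have hp : p.Prime := Fact.out
  refine ⟨?_, fun x hx => hfix x (hx u)⟩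
  -- a Sylow `p`-subgroup containing `u`
  have hzp : IsPGroup p (Subgroup.zpowers u) := by
    obtain ⟨k, hk⟩ := hu
    rintro ⟨g, hg⟩
    obtain ⟨n, rfl⟩ := Subgroup.mem_zpowers_iff.mp hg
    refine ⟨k, Subtype.ext ?_⟩
    simp only [Subgroup.coe_pow, Subgroup.coe_one]
    rw [← zpow_natCast, ← zpow_mul, mul_comm, zpow_mul, zpow_natCast, hk, one_zpow]
  obtain ⟨Q, hQ⟩ := hzp.exists_le_sylow
  have hQn : (Q : Subgroup A).Normal := inferInstance
  have huQ : u ∈ (Q : Subgroup A) := hQ (Subgroup.mem_zpowers u)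
  have hnd : ¬ p ∣ Nat.card Ω := by
    intro h
    have := Nat.mod_eq_zero_of_dvd h
    omega
  obtain ⟨x, hx⟩ := Q.isPGroup'.nonempty_fixed_point_of_prime_not_dvd_card Ω hnd
  have hxω : x = ω := hfix x (by simpa using hx ⟨u, huQ⟩)
  subst hxω
  intro a
  apply hfix
  -- `a • x` is fixed by `Q`, in particular by `u`
  have h1 : a⁻¹ * u * a ∈ (Q : Subgroup A) := by
    have := hQn.conj_mem u huQ a⁻¹
    simpa using this
  have h2 : (a⁻¹ * u * a) • x = x := by simpa using hx ⟨_, h1⟩
  calc u • a • x = a • (a⁻¹ * u * a) • x := by simp [smul_smul, mul_assoc]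
    _ = a • x := by rw [h2]

/-- LEMMA N for a nilpotent subgroup `A` of a group `G` acting through a homomorphism to a permutation group. -/
theorem ncov_lemN_hom {G Ω : Type*} [Group G] [Finite Ω] (φ : G →* Equiv.Perm Ω)
    (A : Subgroup G) [Finite A] [Group.IsNilpotent A]
    (p : ℕ) [Fact p.Prime] (hcard : Nat.card Ω % p = 1) (u : G) (huA : u ∈ A) (hu : ∃ k : ℕ, u ^ p ^ k = 1)
    (ω : Ω) (hfix : ∀ x : Ω, φ u x = x → x = ω) :
    (∀ a ∈ A, φ a ω = ω) ∧ ∀ x : Ω, (∀ a ∈ A, φ a x = x) → x = ω := by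
  letI : MulAction A Ω := MulAction.compHom Ω (φ.comp A.subtype)
  have hsm : ∀ (a : A) (x : Ω), a • x = φ (a : G) x := fun a x => rfl
  obtain ⟨k, hk⟩ := hu
  have h := ncov_lemN (A := A) (Ω := Ω) p hcard ⟨u, huA⟩ ⟨k, Subtype.ext (by simpa using hk)⟩ ω
    (fun x hx => hfix x (by simpa [hsm] using hx))
  exact ⟨fun a ha => by simpa [hsm] using h.1 ⟨a, ha⟩,
    fun x hx => h.2 x (fun a => by simpa [hsm] using hx a a.2)⟩

/-- In a nilpotent group, elements of coprime orders commute. -/
theorem ncov_commute_of_coprime {A : Type*} [Group A] [Group.IsNilpotent A] :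
    ∀ x y : A, Nat.Coprime (orderOf x) (orderOf y) → Commute x y := by
  refine Group.nilpotent_center_quotient_ind
    (P := fun G _ _ => ∀ x y : G, Nat.Coprime (orderOf x) (orderOf y) → Commute x y) A ?_ ?_
  · intro G _ _ x y _; exact Subsingleton.elim _ _
  · intro G _ _ ih
    intro x y hxy
    have hq : Commute (QuotientGroup.mk' (Subgroup.center G) x) (QuotientGroup.mk' (Subgroup.center G) y) := by
      apply ih
      exact Nat.Coprime.of_dvd (orderOf_map_dvd _ x) (orderOf_map_dvd _ y) hxy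
    -- the commutator `z = x⁻¹ y⁻¹ x y` is central
    set z : G := x⁻¹ * y⁻¹ * x * y with hz
    have hzc : z ∈ Subgroup.center G := by
      rw [← QuotientGroup.eq_one_iff, hz]
      have h1 : (QuotientGroup.mk' (Subgroup.center G) x) * (QuotientGroup.mk' (Subgroup.center G) y) =
          (QuotientGroup.mk' (Subgroup.center G) y) * (QuotientGroup.mk' (Subgroup.center G) x) := hq.eq
      simp only [QuotientGroup.mk'_apply] at h1
      simp only [QuotientGroup.mk_mul, QuotientGroup.mk_inv]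
      rw [mul_assoc, mul_assoc, h1]
      group
    have hzcomm : ∀ g : G, g * z = z * g := fun g => (Subgroup.mem_center_iff.mp hzc g)
    -- `y⁻¹ x y = x z` and `x⁻¹ y x = y z⁻¹`
    have e1 : y⁻¹ * x * y = x * z := by rw [hz]; group
    have e2 : x⁻¹ * y * x = y * z⁻¹ := by
      have : z⁻¹ = y⁻¹ * x⁻¹ * y * x := by rw [hz]; group
      rw [this]; group
    have p1 : ∀ n : ℕ, (x * z) ^ n = x ^ n * z ^ n := fun n =>
      (Commute.mul_pow (show Commute x z from (hzcomm x)) n)
    have p2 : ∀ n : ℕ, (y * z⁻¹) ^ n = y ^ n * (z⁻¹) ^ n := fun n =>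
      (Commute.mul_pow (show Commute y z⁻¹ from (Commute.inv_right (hzcomm y))) n)
    have hzx : z ^ orderOf x = 1 := by
      have h : (y⁻¹ * x * y) ^ orderOf x = 1 := by
        have : y⁻¹ * x * y = y⁻¹ * x * y⁻¹⁻¹ := by simp
        rw [this, conj_pow, pow_orderOf_eq_one]; simp
      rw [e1, p1, pow_orderOf_eq_one, one_mul] at h
      exact h
    have hzy : z ^ orderOf y = 1 := by
      have h : (x⁻¹ * y * x) ^ orderOf y = 1 := by
        have : x⁻¹ * y * x = x⁻¹ * y * x⁻¹⁻¹ := by simp
        rw [this, conj_pow, pow_orderOf_eq_one]; simp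
      rw [e2, p2, pow_orderOf_eq_one, one_mul, inv_pow, inv_eq_one] at h
      exact h
    have hz1 : z = 1 := by
      have h1 := orderOf_dvd_of_pow_eq_one hzx
      have h2 := orderOf_dvd_of_pow_eq_one hzy
      have := Nat.dvd_gcd h1 h2
      rw [Nat.Coprime] at hxy
      rw [hxy, Nat.dvd_one, orderOf_eq_one_iff] at this
      exact this
    rw [hz] at hz1
    show x * y = y * x
    have : x * y = y * x * (x⁻¹ * y⁻¹ * x * y) := by group
    rw [this, hz1, mul_one]

/-- Subgroup version: elements of coprime orders of a nilpotent subgroup commute. -/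
theorem ncov_commute_of_coprime_mem {G : Type*} [Group G] (A : Subgroup G) [Group.IsNilpotent A]
    {x y : G} (hx : x ∈ A) (hy : y ∈ A) (h : Nat.Coprime (orderOf x) (orderOf y)) : x * y = y * x := by
  have h' : Nat.Coprime (orderOf (⟨x, hx⟩ : A)) (orderOf (⟨y, hy⟩ : A)) := by
    rw [← Subgroup.orderOf_coe, ← Subgroup.orderOf_coe]; exact h
  have := (ncov_commute_of_coprime (⟨x, hx⟩ : A) ⟨y, hy⟩ h').eq
  exact congrArg Subtype.val this

/-- A `p`-element and an element of order prime to `p` of a nilpotent subgroup commute. -/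
theorem ncov_commute_p_p' {G : Type*} [Group G] (A : Subgroup G) [Group.IsNilpotent A]
    (p : ℕ) [Fact p.Prime] {x y : G} (hx : x ∈ A) (hy : y ∈ A) (hxp : ∃ k : ℕ, x ^ p ^ k = 1)
    (hyp : ¬ p ∣ orderOf y) : x * y = y * x := by
  apply ncov_commute_of_coprime_mem A hx hy
  obtain ⟨k, hk⟩ := hxp
  obtain ⟨j, _, hj⟩ := (Nat.dvd_prime_pow (Fact.out : p.Prime)).mp (orderOf_dvd_of_pow_eq_one hk)
  rw [hj]
  exact Nat.Coprime.pow_left j ((Nat.Prime.coprime_iff_not_dvd (Fact.out : p.Prime)).mpr hyp)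

/-- A nontrivial nilpotent subgroup contains a nontrivial element commuting with all its elements. -/
theorem ncov_exists_central {G : Type*} [Group G] (A : Subgroup G) [Group.IsNilpotent A] (hA : A ≠ ⊥) :
    ∃ z ∈ A, z ≠ 1 ∧ ∀ a ∈ A, a * z = z * a := by
  have : Nontrivial A := (Subgroup.nontrivial_iff_ne_bot A).mpr hA
  have h := Group.IsNilpotent.center_ne_bot A
  obtain ⟨z, hz1⟩ := (Subgroup.ne_bot_iff_exists_ne_one).mp h
  obtain ⟨z, hzc⟩ := z
  refine ⟨(z : G), z.2, ?_, ?_⟩
  · intro h1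
    apply hz1
    exact Subtype.ext (Subtype.ext h1)
  · intro a ha
    have := Subgroup.mem_center_iff.mp hzc ⟨a, ha⟩
    exact congrArg Subtype.val this

end Cfsg.Agent.NCov
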