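import Mathlib
import Cfsg.Agent.NCov.Main
import Cfsg.Agent.NCov.Abs

/-!
# S3894, case `n ≥ 3`: the abstract instantiation of the flag argument

A group `S` (in the application `SL_n(F)`) acts on two sets `Ω` (points) and `Ω'` (hyperplanes), compatibly with a
homomorphism `ι : S →* K` into a group `K` acting on both sets.  `J : S` is a `p`-element with exactly one fixed point
`p₀ ∈ Ω` and exactly one fixed point `H₀ ∈ Ω'`.  The index set is the `S`-orbit of the flag `(p₀, H₀)`.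
-/

set_option autoImplicit false
set_option linter.unusedSectionVars false
set_option linter.style.haveILetI false

namespace Cfsg.Agent.NCov

section abs

variable {S K Ω Ω' : Type*} [Group S] [Group K] [MulAction S Ω] [MulAction S Ω'] [MulAction K Ω] [MulAction K Ω']

/-- The index set: the orbit of the flag `(p₀, H₀)`. -/
def ncov3_I (S : Type*) {Ω Ω' : Type*} [Group S] [MulAction S Ω] [MulAction S Ω'] (p₀ : Ω) (H₀ : Ω') :
    Set (Ω × Ω') :=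
  Set.range (fun h : S => (h • p₀, h • H₀))

/-- A chosen element of `S` carrying the base flag to the flag `i`. -/
noncomputable def ncov3_h {p₀ : Ω} {H₀ : Ω'} (i : ncov3_I S p₀ H₀) : S := i.2.choose

theorem ncov3_h_spec {p₀ : Ω} {H₀ : Ω'} (i : ncov3_I S p₀ H₀) :
    ((ncov3_h i) • p₀, (ncov3_h i) • H₀) = i.1 := i.2.choose_spec

theorem ncov3_h_fst {p₀ : Ω} {H₀ : Ω'} (i : ncov3_I S p₀ H₀) : (ncov3_h i) • p₀ = i.1.1 := by
  have := ncov3_h_spec i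
  rw [← this]

theorem ncov3_h_snd {p₀ : Ω} {H₀ : Ω'} (i : ncov3_I S p₀ H₀) : (ncov3_h i) • H₀ = i.1.2 := by
  have := ncov3_h_spec i
  rw [← this]

/-- The elements `x i`: the conjugates of `J`. -/
noncomputable def ncov3_x (ι : S →* K) (J : S) {p₀ : Ω} {H₀ : Ω'} (i : ncov3_I S p₀ H₀) : K :=
  ι (ncov3_h i * J * (ncov3_h i)⁻¹)

theorem ncov3_x_pelt (ι : S →* K) (J : S) {p : ℕ} {m : ℕ} (hJp : J ^ (p ^ m) = 1) {p₀ : Ω} {H₀ : Ω'}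
    (i : ncov3_I S p₀ H₀) : (ncov3_x ι J i) ^ (p ^ m) = 1 := by
  unfold ncov3_x
  rw [← map_pow, conj_pow, hJp, mul_one, mul_inv_cancel, map_one]

/-- generic: the fixed points of a conjugate. -/
theorem ncov3_conj_fix {X : Type*} [MulAction S X] (J h : S) (x₀ : X) (hJ : ∀ ω : X, J • ω = ω ↔ ω = x₀) (ω : X) :
    (h * J * h⁻¹) • ω = ω ↔ ω = h • x₀ := by
  rw [mul_smul, mul_smul]
  constructor
  · intro hh
    have h1 : J • (h⁻¹ • ω) = h⁻¹ • ω := by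
      have h0 := congrArg (fun y => h⁻¹ • y) hh
      simpa only [inv_smul_smul] using h0
    have h2 := (hJ _).1 h1
    rw [← h2, smul_inv_smul]
  · rintro rfl
    rw [inv_smul_smul, (hJ x₀).2 rfl]

theorem ncov3_hfix (ι : S →* K) (hι : ∀ s (ω : Ω), ι s • ω = s • ω) (J : S) {p₀ : Ω} {H₀ : Ω'}
    (hJ : ∀ ω : Ω, J • ω = ω ↔ ω = p₀) (i : ncov3_I S p₀ H₀) (ω : Ω) :
    ncov3_x ι J i • ω = ω ↔ ω = i.1.1 := by
  unfold ncov3_x
  rw [hι, ncov3_conj_fix J _ p₀ hJ, ncov3_h_fst]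

theorem ncov3_hfix' (ι : S →* K) (hι' : ∀ s (η : Ω'), ι s • η = s • η) (J : S) {p₀ : Ω} {H₀ : Ω'}
    (hJ' : ∀ η : Ω', J • η = η ↔ η = H₀) (i : ncov3_I S p₀ H₀) (η : Ω') :
    ncov3_x ι J i • η = η ↔ η = i.1.2 := by
  unfold ncov3_x
  rw [hι', ncov3_conj_fix J _ H₀ hJ', ncov3_h_snd]

theorem ncov3_hinj {p₀ : Ω} {H₀ : Ω'} (i j : ncov3_I S p₀ H₀) (h1 : i.1.1 = j.1.1) (h2 : i.1.2 = j.1.2) :
    i = j := by
  apply Subtype.ext
  exact Prod.ext h1 h2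

/-- More flags than points: the first projection is onto and not injective. -/
theorem ncov3_hcard [Finite Ω] [Finite Ω'] {p₀ : Ω} {H₀ : Ω'}
    (htrans : ∀ ω : Ω, ∃ s : S, s • p₀ = ω) (s : S) (hs : s • p₀ = p₀) (hs' : s • H₀ ≠ H₀) :
    Nat.card Ω < Nat.card (ncov3_I S p₀ H₀) := by
  classical
  letI : Fintype Ω := Fintype.ofFinite Ω
  letI : Fintype (ncov3_I S p₀ H₀) := Fintype.ofFinite _
  rw [Nat.card_eq_fintype_card, Nat.card_eq_fintype_card]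
  apply Fintype.card_lt_of_surjective_not_injective (fun i : ncov3_I S p₀ H₀ => i.1.1)
  · intro ω
    obtain ⟨h, hh⟩ := htrans ω
    exact ⟨⟨(h • p₀, h • H₀), ⟨h, rfl⟩⟩, hh⟩
  · intro hinj
    have h1 : (⟨((1 : S) • p₀, (1 : S) • H₀), ⟨1, rfl⟩⟩ : ncov3_I S p₀ H₀) =
        ⟨(s • p₀, s • H₀), ⟨s, rfl⟩⟩ := by
      apply hinj
      show (1 : S) • p₀ = s • p₀
      rw [one_smul, hs]
    have h2 := congrArg (fun i : ncov3_I S p₀ H₀ => i.1.2) h1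
    simp only [one_smul] at h2
    exact hs' h2.symm

/-- every point is moved by some element of `K`. -/
theorem ncov3_hprop (ι : S →* K) (hι : ∀ s (ω : Ω), ι s • ω = s • ω) {p₀ : Ω}
    (htrans : ∀ ω : Ω, ∃ s : S, s • p₀ = ω) (hnt : ∃ ω : Ω, ω ≠ p₀) (ω : Ω) : ∃ k : K, k • ω ≠ ω := by
  obtain ⟨ω₁, hω₁⟩ := hnt
  obtain ⟨a, ha⟩ := htrans ω
  by_cases h : ω = p₀
  · obtain ⟨b, hb⟩ := htrans ω₁
    refine ⟨ι b, ?_⟩
    rw [hι, h, hb]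
    exact hω₁
  · refine ⟨ι a⁻¹, ?_⟩
    rw [hι, ← ha, inv_smul_smul, ha]
    exact fun hh => h hh.symm

/-- **The abstract form of the case `n ≥ 3`.** -/
theorem ncov3_abs [Finite K] [Fintype Ω] [Fintype Ω'] (p : ℕ) [Fact p.Prime]
    (hΩ : Fintype.card Ω ≡ 1 [MOD p]) (hΩ' : Fintype.card Ω' ≡ 1 [MOD p])
    (ι : S →* K) (hι : ∀ s (ω : Ω), ι s • ω = s • ω) (hι' : ∀ s (η : Ω'), ι s • η = s • η)
    (J : S) (hJp : ∃ m, J ^ (p ^ m) = 1) (p₀ : Ω) (H₀ : Ω')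
    (hJ : ∀ ω : Ω, J • ω = ω ↔ ω = p₀) (hJ' : ∀ η : Ω', J • η = η ↔ η = H₀)
    (htrans : ∀ ω : Ω, ∃ s : S, s • p₀ = ω) (hnt : ∃ ω : Ω, ω ≠ p₀)
    (s : S) (hs : s • p₀ = p₀) (hs' : s • H₀ ≠ H₀) :
    ¬ ∃ 𝓐 : Finset (Subgroup K), ((∀ A ∈ 𝓐, A ≠ ⊤) ∧ (∀ g : K, ∃ A ∈ 𝓐, g ∈ A)) ∧
      (∀ 𝓑 : Finset (Subgroup K), (∀ A ∈ 𝓑, A ≠ ⊤) ∧ (∀ g : K, ∃ A ∈ 𝓑, g ∈ A) → 𝓐.card ≤ 𝓑.card) ∧
      (∀ A ∈ 𝓐, Group.IsNilpotent ↥A) := by
  classical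
  letI : Fintype (ncov3_I S p₀ H₀) := Fintype.ofFinite _
  obtain ⟨m, hm⟩ := hJp
  refine ncov_T3 (K := K) (Ω := Ω) (Ω' := Ω') p hΩ hΩ' (ncov3_hprop ι hι htrans hnt)
    (ncov3_x ι J (p₀ := p₀) (H₀ := H₀)) (fun i => i.1.1) (fun i => i.1.2)
    (fun i => ⟨m, ncov3_x_pelt ι J hm i⟩)
    (fun i ω => ncov3_hfix ι hι J hJ i ω) (fun i η => ncov3_hfix' ι hι' J hJ' i η)
    (fun i j h1 h2 => ncov3_hinj i j h1 h2) ?_
  have h := ncov3_hcard (S := S) (p₀ := p₀) (H₀ := H₀) htrans s hs hs'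
  rwa [Nat.card_eq_fintype_card, Nat.card_eq_fintype_card] at h

end abs

end Cfsg.Agent.NCov
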