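import Mathlib
import Cfsg.Agent.NCov.Defs
import Cfsg.Agent.NCov.Three
import Cfsg.Agent.NCov.Act
import Cfsg.Agent.NCov.Jordan

/-!
# S3894, case `n ≥ 3`: instantiation of `ncov3_abs` for a group between `PSL_n(F)` and `PGL_n(F)`

`S := SL_n(F)` acts on points and hyperplanes through `ncov_sl`; `K := ↥G`.
-/

set_option autoImplicit false

namespace Cfsg.Agent.NCov

open scoped LinearAlgebra.Projectivization MatrixGroups
open Matrix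

/-- The case `n ≥ 3` from the matrix facts, all stated in the action of `Γ = GL_n/Z`. -/
theorem ncov3_inst {F : Type*} [Field F] [Fintype F] {n : ℕ} (p : ℕ) [Fact p.Prime]
    [Fintype (ncov_Pt n F)] [Fintype (ncov_Hyp n F)]
    (hΩ : Fintype.card (ncov_Pt n F) ≡ 1 [MOD p]) (hΩ' : Fintype.card (ncov_Hyp n F) ≡ 1 [MOD p])
    (G : Subgroup (ncov_Γ n F)) (hG : (ncov_sl n F).range ≤ G)
    (J : SpecialLinearGroup (Fin n) F) (hJp : ∃ m, J ^ (p ^ m) = 1)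
    (p₀ : ncov_Pt n F) (H₀ : ncov_Hyp n F)
    (hJ : ∀ ω : ncov_Pt n F, ncov_sl n F J • ω = ω ↔ ω = p₀)
    (hJ' : ∀ η : ncov_Hyp n F, ncov_sl n F J • η = η ↔ η = H₀)
    (htrans : ∀ ω : ncov_Pt n F, ∃ g : SpecialLinearGroup (Fin n) F, ncov_sl n F g • p₀ = ω)
    (hnt : ∃ ω : ncov_Pt n F, ω ≠ p₀)
    (s : SpecialLinearGroup (Fin n) F) (hs : ncov_sl n F s • p₀ = p₀) (hs' : ncov_sl n F s • H₀ ≠ H₀) :
    ¬ ∃ 𝓐 : Finset (Subgroup ↥G), ((∀ A ∈ 𝓐, A ≠ ⊤) ∧ (∀ g : ↥G, ∃ A ∈ 𝓐, g ∈ A)) ∧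
      (∀ 𝓑 : Finset (Subgroup ↥G), (∀ A ∈ 𝓑, A ≠ ⊤) ∧ (∀ g : ↥G, ∃ A ∈ 𝓑, g ∈ A) → 𝓐.card ≤ 𝓑.card) ∧
      (∀ A ∈ 𝓐, Group.IsNilpotent ↥A) := by
  classical
  let a1 : MulAction (SpecialLinearGroup (Fin n) F) (ncov_Pt n F) := MulAction.compHom _ (ncov_sl n F)
  let a2 : MulAction (SpecialLinearGroup (Fin n) F) (ncov_Hyp n F) := MulAction.compHom _ (ncov_sl n F)
  haveI : Finite (ncov_Γ n F) := inferInstance
  haveI : Finite ↥G := inferInstance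
  let ι : SpecialLinearGroup (Fin n) F →* ↥G := (ncov_sl n F).codRestrict G (fun g => hG ⟨g, rfl⟩)
  exact @ncov3_abs (SpecialLinearGroup (Fin n) F) ↥G (ncov_Pt n F) (ncov_Hyp n F) _ _ a1 a2 _ _ _ _ _ p _ hΩ hΩ'
    ι (fun _ _ => rfl) (fun _ _ => rfl) J hJp p₀ H₀ hJ hJ' htrans hnt s hs hs'

/-- **S3894, the case `n ≥ 3`**, with the hypothesis and the conclusion of the statement verbatim. -/
theorem ncov_three {F : Type*} [Field F] [Fintype F] (n : ℕ) (hn : 3 ≤ n)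
    (G : Subgroup (GL (Fin n) F ⧸ Subgroup.center (GL (Fin n) F)))
    (hG : ((Matrix.SpecialLinearGroup.toGL : Matrix.SpecialLinearGroup (Fin n) F →* GL (Fin n) F).range).map
      (QuotientGroup.mk' (Subgroup.center (GL (Fin n) F))) ≤ G) :
    ¬ ∃ 𝓐 : Finset (Subgroup ↥G), ((∀ A ∈ 𝓐, A ≠ ⊤) ∧ (∀ g : ↥G, ∃ A ∈ 𝓐, g ∈ A)) ∧
      (∀ 𝓑 : Finset (Subgroup ↥G), (∀ A ∈ 𝓑, A ≠ ⊤) ∧ (∀ g : ↥G, ∃ A ∈ 𝓑, g ∈ A) → 𝓐.card ≤ 𝓑.card) ∧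
      (∀ A ∈ 𝓐, Group.IsNilpotent ↥A) := by
  obtain ⟨p, hp⟩ := CharP.exists F
  haveI := hp
  haveI : Fact p.Prime := ⟨CharP.char_is_prime F p⟩
  have hn0 : 0 < n := by omega
  have hnt : ∃ ω : ncov_Pt n F, ω ≠ ncov_J_p0 hn0 := by
    have h3 := ncov_three_le_card_Pt (F := F) (n := n) (by omega)
    by_contra hcon
    push_neg at hcon
    have h1 : Fintype.card (ncov_Pt n F) ≤ 1 :=
      Fintype.card_le_one_iff.2 (fun a b => (hcon a).trans (hcon b).symm)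
    omega
  exact ncov3_inst p (ncov_card_Pt_modEq p (by omega)) (ncov_card_Hyp_modEq p (by omega)) G
    (ncov_range_le_of_hyp hG) (ncov_J n F) (ncov_J_pElement p) (ncov_J_p0 hn0) (ncov_J_H0 hn0)
    (ncov_J_fix_pt hn0) (ncov_J_fix_hyp hn0)
    (fun ω => by
      obtain ⟨g, hg⟩ := ncov_sl_trans (ncov_J_p0 hn0) ω
      exact ⟨g, by rw [ncov_sl_smul]; exact hg⟩)
    hnt (ncov_J_s hn) (ncov_J_s_pt hn) (ncov_J_s_hyp hn)

end Cfsg.Agent.NCov
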