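import Mathlib

set_option autoImplicit false

/-!
# NCov (S3894), the case `n = 2`, abstract part (helper4)

Everything here is about a finite group `G` acting on a finite set `Ω` (for S3894: a group between
`PSL₂(F)` and `PGL₂(F)` acting on the projective line).  No matrices.

* `ncov_two_thmB`: lead's THEOREM B (a family `ℛ` of proper subgroups and elements `x i`, more of them than
  members of `ℛ`, such that a nilpotent subgroup containing `x i` is covered by `ℛ` and contains no other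
  `x j`: then there is no nilpotent minimal cover).
* `ncov_two_center`: a non-trivial nilpotent group has a non-trivial central element.
* `ncov_two_lemN`: LEMMA N (a nilpotent subgroup containing a `p`-element with exactly one fixed point
  fixes that point, when `|Ω| ≡ 1 mod p`).
* `ncov_two_I`: cases (I)/(II) of the blueprint;  `ncov_two_III`: case (III).
-/

namespace Cfsg.Agent.NCov

open MulAction Pointwise

/-- THEOREM B. -/
theorem ncov_two_thmB {G : Type*} [Group G] {I : Type*} [Fintype I]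
    (ℛ : Finset (Subgroup G)) (hℛ : ∀ R ∈ ℛ, R ≠ ⊤) (x : I → G) (hcard : ℛ.card < Fintype.card I)
    (h1 : ∀ A : Subgroup G, Group.IsNilpotent ↥A → ∀ i, x i ∈ A → ∀ a ∈ A, ∃ R ∈ ℛ, a ∈ R)
    (h2 : ∀ A : Subgroup G, Group.IsNilpotent ↥A → ∀ i j, x i ∈ A → x j ∈ A → i = j) :
    ¬ ∃ 𝓐 : Finset (Subgroup G), ((∀ A ∈ 𝓐, A ≠ ⊤) ∧ (∀ g : G, ∃ A ∈ 𝓐, g ∈ A)) ∧
      (∀ 𝓑 : Finset (Subgroup G), (∀ A ∈ 𝓑, A ≠ ⊤) ∧ (∀ g : G, ∃ A ∈ 𝓑, g ∈ A) →
        𝓐.card ≤ 𝓑.card) ∧ (∀ A ∈ 𝓐, Group.IsNilpotent ↥A) := by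
  classical
  rintro ⟨𝓐, ⟨hprop, hcov⟩, hmin, hnil⟩
  choose f hf𝓐 hfx using fun i => hcov (x i)
  have hinj : Function.Injective f := by
    intro i j hij
    exact h2 (f i) (hnil _ (hf𝓐 i)) i j (hfx i) (hij ▸ hfx j)
  set img : Finset (Subgroup G) := Finset.univ.image f with himg
  have himg_sub : img ⊆ 𝓐 := by
    intro A hA
    rw [himg, Finset.mem_image] at hA
    obtain ⟨i, -, rfl⟩ := hA
    exact hf𝓐 i
  have himg_card : img.card = Fintype.card I := by
    rw [himg, Finset.card_image_of_injective _ hinj, Finset.card_univ]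
  set 𝓑 : Finset (Subgroup G) := (𝓐 \ img) ∪ ℛ with h𝓑
  have hB : (∀ A ∈ 𝓑, A ≠ ⊤) ∧ (∀ g : G, ∃ A ∈ 𝓑, g ∈ A) := by
    constructor
    · intro A hA
      rw [h𝓑, Finset.mem_union] at hA
      rcases hA with hA | hA
      · exact hprop A (Finset.mem_sdiff.mp hA).1
      · exact hℛ A hA
    · intro g
      obtain ⟨A, hA, hgA⟩ := hcov g
      by_cases hAi : A ∈ img
      · rw [himg, Finset.mem_image] at hAi
        obtain ⟨i, -, rfl⟩ := hAi
        obtain ⟨R, hR, hgR⟩ := h1 (f i) (hnil _ hA) i (hfx i) g hgA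
        exact ⟨R, Finset.mem_union_right _ hR, hgR⟩
      · exact ⟨A, Finset.mem_union_left _ (Finset.mem_sdiff.mpr ⟨hA, hAi⟩), hgA⟩
  have h3 := hmin 𝓑 hB
  have h4 : 𝓑.card ≤ (𝓐 \ img).card + ℛ.card := Finset.card_union_le _ _
  have h5 : (𝓐 \ img).card = 𝓐.card - img.card := Finset.card_sdiff_of_subset himg_sub
  have h6 : img.card ≤ 𝓐.card := Finset.card_le_card himg_sub
  omega

/-- A non-trivial nilpotent group has a non-trivial central element. -/
theorem ncov_two_center {A : Type*} [Group A] (hA : Group.IsNilpotent A) (a : A) (ha : a ≠ 1) :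
    ∃ z : A, z ≠ 1 ∧ ∀ b : A, b * z = z * b := by
  by_contra hcon
  push Not at hcon
  have hbot : ∀ n : ℕ, Subgroup.upperCentralSeries A n = ⊥ := by
    intro n
    induction n with
    | zero => exact Subgroup.upperCentralSeries_zero A
    | succ n ih =>
      rw [eq_bot_iff]
      intro x hx
      rw [Subgroup.mem_upperCentralSeries_succ_iff] at hx
      rw [Subgroup.mem_bot]
      by_contra hx1
      obtain ⟨b, hb⟩ := hcon x hx1
      apply hb
      have := hx b
      rw [ih, Subgroup.mem_bot, commutatorElement_def] at this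
      have h2 : x * b = b * x := by
        have h3 : x * b * x⁻¹ * b⁻¹ * (b * x) = 1 * (b * x) := by rw [this]
        have h4 : x * b * x⁻¹ * b⁻¹ * (b * x) = x * b := by group
        rw [h4, one_mul] at h3
        exact h3
      exact h2.symm
  obtain ⟨n, hn⟩ := hA.nilpotent
  rw [hbot n] at hn
  apply ha
  have : a ∈ (⊤ : Subgroup A) := Subgroup.mem_top a
  rw [← hn, Subgroup.mem_bot] at this
  exact this

/-- LEMMA N: a nilpotent subgroup containing a `p`-element with exactly one fixed point `ω` fixes `ω`,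
provided `|Ω| ≡ 1 mod p`. -/
theorem ncov_two_lemN {G : Type*} [Group G] [Finite G] {Ω : Type*} [Fintype Ω] [MulAction G Ω]
    (p : ℕ) [Fact p.Prime] (hΩ : Fintype.card Ω ≡ 1 [MOD p]) (A : Subgroup G)
    (hA : Group.IsNilpotent ↥A) (u : G) (hu : u ∈ A) (k : ℕ) (huk : u ^ p ^ k = 1) (ω : Ω)
    (hfix : ∀ ω', u • ω' = ω' ↔ ω' = ω) : ∀ a ∈ A, a • ω = ω := by
  have hp : p.Prime := Fact.out
  set u' : ↥A := ⟨u, hu⟩ with hu'
  have hPg : IsPGroup p ↥(Subgroup.zpowers u') := by
    rintro ⟨g, hg⟩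
    obtain ⟨m, rfl⟩ := Subgroup.mem_zpowers_iff.mp hg
    refine ⟨k, ?_⟩
    apply Subtype.ext
    apply Subtype.ext
    simp only [Subgroup.coe_pow, Subgroup.coe_zpow, Subgroup.coe_one, hu']
    rw [← zpow_natCast, ← zpow_mul, mul_comm, zpow_mul, zpow_natCast, huk, one_zpow]
  obtain ⟨P, hP⟩ := hPg.exists_le_sylow
  have hPn : (P : Subgroup ↥A).Normal := by
    have := hA
    infer_instance
  have hu'P : u' ∈ (P : Subgroup ↥A) := hP (Subgroup.mem_zpowers u')
  have hmod := P.2.card_modEq_card_fixedPoints Ω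
  rw [Nat.card_eq_fintype_card] at hmod
  have hne : Nat.card ↥(fixedPoints ↥(P : Subgroup ↥A) Ω) ≠ 0 := by
    intro h0
    rw [h0] at hmod
    have := hmod.symm.trans hΩ
    have h1 : p ∣ 1 := by
      have := (Nat.modEq_iff_dvd' (Nat.zero_le 1)).mp this
      simpa using this
    exact hp.one_lt.ne' (Nat.dvd_one.mp h1)
  have hnonempty : Nonempty ↥(fixedPoints ↥(P : Subgroup ↥A) Ω) := by
    by_contra hcon
    rw [not_nonempty_iff] at hcon
    exact hne Nat.card_of_isEmpty
  obtain ⟨⟨ω₀, hω₀⟩⟩ := hnonempty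
  have hfixP : ∀ ω' : Ω, ω' ∈ fixedPoints ↥(P : Subgroup ↥A) Ω → ω' = ω := by
    intro ω' hω'
    have := hω' ⟨u', hu'P⟩
    exact (hfix ω').mp this
  have hω : ω ∈ fixedPoints ↥(P : Subgroup ↥A) Ω := hfixP ω₀ hω₀ ▸ hω₀
  intro a ha
  apply hfixP
  rintro ⟨g, hg⟩
  set a' : ↥A := ⟨a, ha⟩ with ha'
  have hconj : a'⁻¹ * g * a' ∈ (P : Subgroup ↥A) := by
    have := hPn.conj_mem g hg a'⁻¹
    rwa [inv_inv] at this
  have h1 := hω ⟨a'⁻¹ * g * a', hconj⟩
  have h2 : ((a'⁻¹ * g * a' : ↥A) : G) • ω = ω := h1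
  have h3 : (g : G) • (a • ω) = a • ω := by
    have h4 : (g : G) = a * ((a'⁻¹ * g * a' : ↥A) : G) * a⁻¹ := by
      simp only [Subgroup.coe_mul, Subgroup.coe_inv, ha']
      group
    rw [h4, mul_smul, mul_smul, inv_smul_smul, h2]
  exact h3

/-- The key configuration lemma: a nilpotent subgroup containing an element `t` with exactly two fixed
points `α ≠ β`, where the central element found fixes both, permutes `{α, β}`. -/
theorem ncov_two_pair_of_center {G : Type*} [Group G] {Ω : Type*} [MulAction G Ω]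
    (hfix3 : ∀ g : G, ∀ a b c : Ω, a ≠ b → a ≠ c → b ≠ c → g • a = a → g • b = b → g • c = c →
      g = 1)
    (A : Subgroup G) (ζ : G) (hζ1 : ζ ≠ 1) (hζc : ∀ a ∈ A, a * ζ = ζ * a) (α β : Ω) (hαβ : α ≠ β)
    (hα : ζ • α = α) (hβ : ζ • β = β) :
    ∀ a ∈ A, (a • α = α ∧ a • β = β) ∨ (a • α = β ∧ a • β = α) := by
  intro a ha
  have hmem : ∀ γ : Ω, ζ • γ = γ → γ = α ∨ γ = β := by
    intro γ hγ
    by_contra hcon
    push Not at hcon
    exact hζ1 (hfix3 ζ α β γ hαβ (Ne.symm hcon.1) (Ne.symm hcon.2) hα hβ hγ)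
  have hcomm : ∀ γ : Ω, ζ • γ = γ → ζ • (a • γ) = a • γ := by
    intro γ hγ
    rw [← mul_smul, ← hζc a ha, mul_smul, hγ]
  have h1 := hmem _ (hcomm α hα)
  have h2 := hmem _ (hcomm β hβ)
  have hinj : a • α ≠ a • β := fun h => hαβ (MulAction.injective a h)
  rcases h1 with h1 | h1 <;> rcases h2 with h2 | h2
  · exact absurd (h1.trans h2.symm) hinj
  · exact Or.inl ⟨h1, h2⟩
  · exact Or.inr ⟨h1, h2⟩
  · exact absurd (h1.trans h2.symm) hinj

/-- A nilpotent subgroup containing `t` with `Fix t = {α, β}`, `α ≠ β`, `t * t ≠ 1`, in a group where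
swapping elements are involutions, permutes `{α, β}`. -/
theorem ncov_two_pair {G : Type*} [Group G] {Ω : Type*} [MulAction G Ω]
    (hfix3 : ∀ g : G, ∀ a b c : Ω, a ≠ b → a ≠ c → b ≠ c → g • a = a → g • b = b → g • c = c →
      g = 1)
    (hswap : ∀ g : G, ∀ a b : Ω, a ≠ b → g • a = b → g • b = a → g * g = 1)
    (A : Subgroup G) (hA : Group.IsNilpotent ↥A) (t : G) (ht : t ∈ A) (α β : Ω) (hαβ : α ≠ β)
    (htfix : ∀ ω', t • ω' = ω' ↔ (ω' = α ∨ ω' = β)) (htsq : t * t ≠ 1) :
    ∀ a ∈ A, (a • α = α ∧ a • β = β) ∨ (a • α = β ∧ a • β = α) := by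
  have ht1 : (⟨t, ht⟩ : ↥A) ≠ 1 := by
    intro h
    have : t = 1 := congrArg Subtype.val h
    apply htsq
    rw [this, one_mul]
  obtain ⟨⟨ζ, hζA⟩, hζ1, hζc⟩ := ncov_two_center hA _ ht1
  have hζ1' : ζ ≠ 1 := fun h => hζ1 (Subtype.ext h)
  have hζc' : ∀ a ∈ A, a * ζ = ζ * a := by
    intro a ha
    exact congrArg Subtype.val (hζc ⟨a, ha⟩)
  have htα : t • α = α := (htfix α).mpr (Or.inl rfl)
  have htβ : t • β = β := (htfix β).mpr (Or.inr rfl)
  have hcomm : ∀ γ : Ω, t • γ = γ → t • (ζ • γ) = ζ • γ := by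
    intro γ hγ
    rw [← mul_smul, hζc' t ht, mul_smul, hγ]
  have h1 := (htfix _).mp (hcomm α htα)
  have h2 := (htfix _).mp (hcomm β htβ)
  have hinj : ζ • α ≠ ζ • β := fun h => hαβ (MulAction.injective ζ h)
  have hfixboth : ζ • α = α ∧ ζ • β = β := by
    rcases h1 with h1 | h1 <;> rcases h2 with h2 | h2
    · exact absurd (h1.trans h2.symm) hinj
    · exact ⟨h1, h2⟩
    · exfalso
      -- ζ swaps α, β: then ζ² = 1 and (ζ t)² = 1, so t² = 1
      have e1 := hswap ζ α β hαβ h1 h2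
      have e2 : (ζ * t) * (ζ * t) = 1 := by
        apply hswap (ζ * t) α β hαβ
        · rw [mul_smul, htα, h1]
        · rw [mul_smul, htβ, h2]
      apply htsq
      have e3 : (ζ * t) * (ζ * t) = (ζ * ζ) * (t * t) := by
        rw [mul_assoc, ← mul_assoc t ζ t, hζc' t ht]
        group
      rw [e3, e1, one_mul] at e2
      exact e2
    · exact absurd (h1.trans h2.symm) hinj
  exact ncov_two_pair_of_center hfix3 A ζ hζ1' hζc' α β hαβ hfixboth.1 hfixboth.2

/-- Cases (I)/(II): there are elements with exactly two fixed points whose square is not `1`, for every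
pair of points, and elements swapping two points are involutions. -/
theorem ncov_two_I {G : Type*} [Group G] [Finite G] {Ω : Type*} [Fintype Ω] [DecidableEq Ω]
    [MulAction G Ω] (p : ℕ) [Fact p.Prime] (hΩ : Fintype.card Ω ≡ 1 [MOD p])
    (h3 : 3 ≤ Fintype.card Ω) (htr : ∀ a b : Ω, ∃ g : G, g • a = b)
    (hu : ∀ ω : Ω, ∃ u : G, (∃ k : ℕ, u ^ p ^ k = 1) ∧ ∀ ω', u • ω' = ω' ↔ ω' = ω)
    (hfix3 : ∀ g : G, ∀ a b c : Ω, a ≠ b → a ≠ c → b ≠ c → g • a = a → g • b = b → g • c = c →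
      g = 1)
    (hswap : ∀ g : G, ∀ a b : Ω, a ≠ b → g • a = b → g • b = a → g * g = 1)
    (ht : ∀ a b : Ω, a ≠ b → ∃ t : G, (∀ ω', t • ω' = ω' ↔ (ω' = a ∨ ω' = b)) ∧ t * t ≠ 1) :
    ¬ ∃ 𝓐 : Finset (Subgroup G), ((∀ A ∈ 𝓐, A ≠ ⊤) ∧ (∀ g : G, ∃ A ∈ 𝓐, g ∈ A)) ∧
      (∀ 𝓑 : Finset (Subgroup G), (∀ A ∈ 𝓑, A ≠ ⊤) ∧ (∀ g : G, ∃ A ∈ 𝓑, g ∈ A) →
        𝓐.card ≤ 𝓑.card) ∧ (∀ A ∈ 𝓐, Group.IsNilpotent ↥A) := by
  classical
  choose u hupow hufix using hu
  have key : ∀ z : Sym2 Ω, ¬ z.IsDiag →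
      ∃ t : G, (∀ ω', t • ω' = ω' ↔ ω' ∈ z) ∧ t * t ≠ 1 := by
    intro z
    induction z using Sym2.ind with
    | _ a b =>
      intro hd
      have hab : a ≠ b := by
        intro h
        exact hd (Sym2.mk_isDiag_iff.mpr h)
      obtain ⟨t, h1, h2⟩ := ht a b hab
      exact ⟨t, fun ω' => by rw [h1, Sym2.mem_iff], h2⟩
  choose tt httfix httsq using key
  have hne : Nonempty Ω := by
    rw [← Fintype.card_pos_iff]
    omega
  obtain ⟨ω₀⟩ := hne
  -- the family ℛ
  set ℛ : Finset (Subgroup G) := (Finset.univ.image fun ω : Ω => stabilizer G ω) ∪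
    ((Finset.univ.erase ω₀).image fun ω' : Ω => stabilizer G ({ω₀, ω'} : Set Ω)) with hℛdef
  -- existence of a point outside a set with at most two points
  have hthird : ∀ a b : Ω, ∃ c : Ω, c ≠ a ∧ c ≠ b := by
    intro a b
    by_contra hcon
    push Not at hcon
    have : (Finset.univ : Finset Ω) ⊆ {a, b} := by
      intro c _
      by_cases hca : c = a
      · simp [hca]
      · simp [hcon c hca]
    have h1 := Finset.card_le_card this
    have h2 : ({a, b} : Finset Ω).card ≤ 2 := Finset.card_le_two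
    rw [Finset.card_univ] at h1
    omega
  have hℛ : ∀ R ∈ ℛ, R ≠ ⊤ := by
    intro R hR
    rw [hℛdef, Finset.mem_union, Finset.mem_image, Finset.mem_image] at hR
    rcases hR with ⟨ω, -, rfl⟩ | ⟨ω', -, rfl⟩
    · obtain ⟨c, hc, -⟩ := hthird ω ω
      obtain ⟨g, hg⟩ := htr ω c
      intro htop
      have : g ∈ stabilizer G ω := htop ▸ Subgroup.mem_top g
      rw [mem_stabilizer_iff, hg] at this
      exact hc this
    · obtain ⟨c, hc1, hc2⟩ := hthird ω₀ ω'
      obtain ⟨g, hg⟩ := htr ω₀ c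
      intro htop
      have : g ∈ stabilizer G ({ω₀, ω'} : Set Ω) := htop ▸ Subgroup.mem_top g
      rw [mem_stabilizer_iff] at this
      have hmem : g • ω₀ ∈ g • ({ω₀, ω'} : Set Ω) :=
        Set.smul_mem_smul_set (Set.mem_insert _ _)
      rw [this, hg] at hmem
      rcases hmem with h | h
      · exact hc1 h
      · exact hc2 h
  set n := Fintype.card Ω with hn
  have hℛcard : ℛ.card ≤ n + (n - 1) := by
    refine (Finset.card_union_le _ _).trans ?_
    refine Nat.add_le_add ?_ ?_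
    · exact Finset.card_image_le.trans (by rw [Finset.card_univ])
    · refine Finset.card_image_le.trans ?_
      rw [Finset.card_erase_of_mem (Finset.mem_univ _), Finset.card_univ]
  -- the index set and the elements
  let I := Ω ⊕ {z : Sym2 Ω // ¬ z.IsDiag}
  let x : I → G := Sum.elim u fun z => tt z.1 z.2
  have hIcard : Fintype.card I = n + n.choose 2 := by
    simp only [I, Fintype.card_sum, Sym2.card_subtype_not_diag, hn]
  have hchoose : n ≤ n.choose 2 := by
    rw [Nat.choose_two_right]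
    have h5 : n * 2 ≤ n * (n - 1) := Nat.mul_le_mul_left n (by omega)
    omega
  have hcard : ℛ.card < Fintype.card I := by
    rw [hIcard]
    omega
  -- the "pair" consequence for the elements tt
  have hpair : ∀ (A : Subgroup G), Group.IsNilpotent ↥A → ∀ (α β : Ω) (hd : ¬ (s(α, β)).IsDiag),
      tt s(α, β) hd ∈ A →
      α ≠ β ∧ ∀ a ∈ A, (a • α = α ∧ a • β = β) ∨ (a • α = β ∧ a • β = α) := by
    intro A hA α β hd htA
    have hαβ : α ≠ β := fun h => hd (Sym2.mk_isDiag_iff.mpr h)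
    refine ⟨hαβ, ?_⟩
    apply ncov_two_pair hfix3 hswap A hA (tt s(α, β) hd) htA α β hαβ
    · intro ω'
      rw [httfix, Sym2.mem_iff]
    · exact httsq _ _
  refine ncov_two_thmB ℛ hℛ x hcard ?_ ?_
  · -- (1)
    intro A hA i hi a ha
    rcases i with ω | ⟨z, hz⟩
    · obtain ⟨k, hk⟩ := hupow ω
      have := ncov_two_lemN p hΩ A hA (u ω) hi k hk ω (hufix ω) a ha
      refine ⟨stabilizer G ω, ?_, mem_stabilizer_iff.mpr this⟩
      rw [hℛdef]
      exact Finset.mem_union_left _ (Finset.mem_image_of_mem _ (Finset.mem_univ _))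
    · induction z using Sym2.ind with
      | _ α β =>
        obtain ⟨hαβ, hp⟩ := hpair A hA α β hz hi
        rcases hp a ha with ⟨h1, -⟩ | ⟨h1, h2⟩
        · refine ⟨stabilizer G α, ?_, mem_stabilizer_iff.mpr h1⟩
          rw [hℛdef]
          exact Finset.mem_union_left _ (Finset.mem_image_of_mem _ (Finset.mem_univ _))
        · have hsq : a * a = 1 := hswap a α β hαβ h1 h2
          by_cases h0 : a • ω₀ = ω₀
          · refine ⟨stabilizer G ω₀, ?_, mem_stabilizer_iff.mpr h0⟩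
            rw [hℛdef]
            exact Finset.mem_union_left _ (Finset.mem_image_of_mem _ (Finset.mem_univ _))
          · refine ⟨stabilizer G ({ω₀, a • ω₀} : Set Ω), ?_, ?_⟩
            · rw [hℛdef]
              apply Finset.mem_union_right
              exact Finset.mem_image_of_mem _ (Finset.mem_erase.mpr ⟨h0, Finset.mem_univ _⟩)
            · rw [mem_stabilizer_iff]
              have e1 : a • (a • ω₀) = ω₀ := by rw [← mul_smul, hsq, one_smul]
              rw [← Set.image_smul, Set.image_pair, e1, Set.pair_comm]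
  · -- (2)
    intro A hA i j hi hj
    rcases i with ω | ⟨z, hz⟩ <;> rcases j with ω' | ⟨z', hz'⟩
    · obtain ⟨k, hk⟩ := hupow ω
      have := ncov_two_lemN p hΩ A hA (u ω) hi k hk ω (hufix ω) (u ω') hj
      rw [(hufix ω' ω).mp this]
    · exfalso
      induction z' using Sym2.ind with
      | _ α β =>
        obtain ⟨hαβ, hp⟩ := hpair A hA α β hz' hj
        obtain ⟨k, hk⟩ := hupow ω
        have hN := ncov_two_lemN p hΩ A hA (u ω) hi k hk ω (hufix ω)
        have h1 : tt s(α, β) hz' • ω = ω := hN _ hj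
        rw [httfix, Sym2.mem_iff] at h1
        rcases hp (u ω) hi with ⟨e1, e2⟩ | ⟨e1, e2⟩
        · have a1 := (hufix ω α).mp e1
          have a2 := (hufix ω β).mp e2
          exact hαβ (a1.trans a2.symm)
        · rcases h1 with h1 | h1
          · have : u ω • α = α := by rw [← h1]; exact (hufix ω ω).mpr rfl
            rw [e1] at this
            exact hαβ this.symm
          · have : u ω • β = β := by rw [← h1]; exact (hufix ω ω).mpr rfl
            rw [e2] at this
            exact hαβ this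
    · exfalso
      induction z using Sym2.ind with
      | _ α β =>
        obtain ⟨hαβ, hp⟩ := hpair A hA α β hz hi
        obtain ⟨k, hk⟩ := hupow ω'
        have hN := ncov_two_lemN p hΩ A hA (u ω') hj k hk ω' (hufix ω')
        have h1 : tt s(α, β) hz • ω' = ω' := hN _ hi
        rw [httfix, Sym2.mem_iff] at h1
        rcases hp (u ω') hj with ⟨e1, e2⟩ | ⟨e1, e2⟩
        · have a1 := (hufix ω' α).mp e1
          have a2 := (hufix ω' β).mp e2
          exact hαβ (a1.trans a2.symm)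
        · rcases h1 with h1 | h1
          · have : u ω' • α = α := by rw [← h1]; exact (hufix ω' ω').mpr rfl
            rw [e1] at this
            exact hαβ this.symm
          · have : u ω' • β = β := by rw [← h1]; exact (hufix ω' ω').mpr rfl
            rw [e2] at this
            exact hαβ this
    · induction z using Sym2.ind with
      | _ α β =>
        obtain ⟨hαβ, hp⟩ := hpair A hA α β hz hi
        have hz'eq : z' = s(α, β) := by
          rcases hp (tt z' hz') hj with ⟨e1, e2⟩ | ⟨e1, e2⟩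
          · rw [httfix] at e1 e2
            exact (Sym2.mem_and_mem_iff hαβ).mp ⟨e1, e2⟩
          · exact absurd (hswap _ α β hαβ e1 e2) (httsq z' hz')
        subst hz'eq
        rfl

/-- Case (III): every element swapping two points has a fixed point, and there is an element with
exactly two fixed points. -/
theorem ncov_two_III {G : Type*} [Group G] [Finite G] {Ω : Type*} [Fintype Ω] [DecidableEq Ω]
    [MulAction G Ω] (p : ℕ) [Fact p.Prime] (hΩ : Fintype.card Ω ≡ 1 [MOD p])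
    (h3 : 3 ≤ Fintype.card Ω) (htr : ∀ a b : Ω, ∃ g : G, g • a = b)
    (hu : ∀ ω : Ω, ∃ u : G, (∃ k : ℕ, u ^ p ^ k = 1) ∧ ∀ ω', u • ω' = ω' ↔ ω' = ω)
    (hfix3 : ∀ g : G, ∀ a b c : Ω, a ≠ b → a ≠ c → b ≠ c → g • a = a → g • b = b → g • c = c →
      g = 1)
    (hswapfix : ∀ g : G, ∀ a b : Ω, a ≠ b → g • a = b → g • b = a → ∃ c : Ω, g • c = c)
    (xs : G) (α β : Ω) (hαβ : α ≠ β) (hxs : ∀ ω', xs • ω' = ω' ↔ (ω' = α ∨ ω' = β)) :
    ¬ ∃ 𝓐 : Finset (Subgroup G), ((∀ A ∈ 𝓐, A ≠ ⊤) ∧ (∀ g : G, ∃ A ∈ 𝓐, g ∈ A)) ∧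
      (∀ 𝓑 : Finset (Subgroup G), (∀ A ∈ 𝓑, A ≠ ⊤) ∧ (∀ g : G, ∃ A ∈ 𝓑, g ∈ A) →
        𝓐.card ≤ 𝓑.card) ∧ (∀ A ∈ 𝓐, Group.IsNilpotent ↥A) := by
  classical
  choose u hupow hufix using hu
  have hthird : ∀ a b : Ω, ∃ c : Ω, c ≠ a ∧ c ≠ b := by
    intro a b
    by_contra hcon
    push Not at hcon
    have : (Finset.univ : Finset Ω) ⊆ {a, b} := by
      intro c _
      by_cases hca : c = a
      · simp [hca]
      · simp [hcon c hca]
    have h1 := Finset.card_le_card this
    have h2 : ({a, b} : Finset Ω).card ≤ 2 := Finset.card_le_two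
    rw [Finset.card_univ] at h1
    omega
  set ℛ : Finset (Subgroup G) := Finset.univ.image fun ω : Ω => stabilizer G ω with hℛdef
  have hℛ : ∀ R ∈ ℛ, R ≠ ⊤ := by
    intro R hR
    rw [hℛdef, Finset.mem_image] at hR
    obtain ⟨ω, -, rfl⟩ := hR
    obtain ⟨c, hc, -⟩ := hthird ω ω
    obtain ⟨g, hg⟩ := htr ω c
    intro htop
    have : g ∈ stabilizer G ω := htop ▸ Subgroup.mem_top g
    rw [mem_stabilizer_iff, hg] at this
    exact hc this
  have hℛcard : ℛ.card ≤ Fintype.card Ω :=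
    Finset.card_image_le.trans (by rw [Finset.card_univ])
  have hmemℛ : ∀ (a : G) (c : Ω), a • c = c → ∃ R ∈ ℛ, a ∈ R := by
    intro a c hc
    exact ⟨stabilizer G c, Finset.mem_image_of_mem _ (Finset.mem_univ _), mem_stabilizer_iff.mpr hc⟩
  let x : Option Ω → G := fun o => o.elim xs u
  have hcard : ℛ.card < Fintype.card (Option Ω) := by
    rw [Fintype.card_option]
    omega
  have hxs1 : xs ≠ 1 := by
    intro h
    obtain ⟨c, hc1, hc2⟩ := hthird α β
    have := (hxs c).mp (by rw [h, one_smul])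
    rcases this with h | h
    · exact hc1 h
    · exact hc2 h
  -- central element of a nilpotent subgroup containing xs
  have hcen : ∀ (A : Subgroup G), Group.IsNilpotent ↥A → xs ∈ A →
      ∃ ζ : G, ζ ≠ 1 ∧ ζ ∈ A ∧ (∀ a ∈ A, a * ζ = ζ * a) ∧
        ((ζ • α = α ∧ ζ • β = β) ∨ (ζ • α = β ∧ ζ • β = α)) := by
    intro A hA hxA
    have ht1 : (⟨xs, hxA⟩ : ↥A) ≠ 1 := fun h => hxs1 (congrArg Subtype.val h)
    obtain ⟨⟨ζ, hζA⟩, hζ1, hζc⟩ := ncov_two_center hA _ ht1
    have hζ1' : ζ ≠ 1 := fun h => hζ1 (Subtype.ext h)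
    have hζc' : ∀ a ∈ A, a * ζ = ζ * a := by
      intro a ha
      exact congrArg Subtype.val (hζc ⟨a, ha⟩)
    refine ⟨ζ, hζ1', hζA, hζc', ?_⟩
    have htα : xs • α = α := (hxs α).mpr (Or.inl rfl)
    have htβ : xs • β = β := (hxs β).mpr (Or.inr rfl)
    have hcomm : ∀ γ : Ω, xs • γ = γ → xs • (ζ • γ) = ζ • γ := by
      intro γ hγ
      rw [← mul_smul, hζc' xs hxA, mul_smul, hγ]
    have h1 := (hxs _).mp (hcomm α htα)
    have h2 := (hxs _).mp (hcomm β htβ)
    have hinj : ζ • α ≠ ζ • β := fun h => hαβ (MulAction.injective ζ h)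
    rcases h1 with h1 | h1 <;> rcases h2 with h2 | h2
    · exact absurd (h1.trans h2.symm) hinj
    · exact Or.inl ⟨h1, h2⟩
    · exact Or.inr ⟨h1, h2⟩
    · exact absurd (h1.trans h2.symm) hinj
  refine ncov_two_thmB ℛ hℛ x hcard ?_ ?_
  · -- (1)
    intro A hA i hi a ha
    rcases i with _ | ω
    · -- xs ∈ A
      have hxA : xs ∈ A := hi
      obtain ⟨ζ, hζ1, hζA, hζc, hζ⟩ := hcen A hA hxA
      rcases hζ with ⟨e1, e2⟩ | ⟨e1, e2⟩
      · rcases ncov_two_pair_of_center hfix3 A ζ hζ1 hζc α β hαβ e1 e2 a ha with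
          ⟨h1, -⟩ | ⟨h1, h2⟩
        · exact hmemℛ a α h1
        · obtain ⟨c, hc⟩ := hswapfix a α β hαβ h1 h2
          exact hmemℛ a c hc
      · obtain ⟨c, hc⟩ := hswapfix ζ α β hαβ e1 e2
        by_cases hac : a • c = c
        · exact hmemℛ a c hac
        · have hc' : ζ • (a • c) = a • c := by
            rw [← mul_smul, ← hζc a ha, mul_smul, hc]
          rcases ncov_two_pair_of_center hfix3 A ζ hζ1 hζc c (a • c) (Ne.symm hac) hc hc' a ha
            with ⟨h1, -⟩ | ⟨h1, h2⟩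
          · exact absurd h1 hac
          · obtain ⟨d, hd⟩ := hswapfix a c (a • c) (Ne.symm hac) h1 h2
            exact hmemℛ a d hd
    · obtain ⟨k, hk⟩ := hupow ω
      have := ncov_two_lemN p hΩ A hA (u ω) hi k hk ω (hufix ω) a ha
      exact hmemℛ a ω this
  · -- (2)
    have hmix : ∀ (A : Subgroup G), Group.IsNilpotent ↥A → ∀ ω : Ω, u ω ∈ A → xs ∈ A → False := by
      intro A hA ω huA hxA
      obtain ⟨k, hk⟩ := hupow ω
      have hN := ncov_two_lemN p hΩ A hA (u ω) huA k hk ω (hufix ω)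
      obtain ⟨ζ, hζ1, hζA, hζc, hζ⟩ := hcen A hA hxA
      have hζω : ζ • ω = ω := hN ζ hζA
      have hxω : ω = α ∨ ω = β := (hxs ω).mp (hN xs hxA)
      -- ζ fixes both α and β
      have hboth : ζ • α = α ∧ ζ • β = β := by
        rcases hζ with h | ⟨e1, e2⟩
        · exact h
        · exfalso
          rcases hxω with h | h
          · rw [h, e1] at hζω
            exact hαβ hζω.symm
          · rw [h, e2] at hζω
            exact hαβ hζω
      have hp := ncov_two_pair_of_center hfix3 A ζ hζ1 hζc α β hαβ hboth.1 hboth.2 (u ω) huA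
      rcases hp with ⟨e1, e2⟩ | ⟨e1, e2⟩
      · have a1 := (hufix ω α).mp e1
        have a2 := (hufix ω β).mp e2
        exact hαβ (a1.trans a2.symm)
      · rcases hxω with h1 | h1
        · have : u ω • α = α := by rw [← h1]; exact (hufix ω ω).mpr rfl
          rw [e1] at this
          exact hαβ this.symm
        · have : u ω • β = β := by rw [← h1]; exact (hufix ω ω).mpr rfl
          rw [e2] at this
          exact hαβ this
    intro A hA i j hi hj
    rcases i with _ | ω <;> rcases j with _ | ω'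
    · rfl
    · exact (hmix A hA ω' hj hi).elim
    · exact (hmix A hA ω hi hj).elim
    · obtain ⟨k, hk⟩ := hupow ω
      have := ncov_two_lemN p hΩ A hA (u ω) hi k hk ω (hufix ω) (u ω') hj
      rw [(hufix ω' ω).mp this]

end Cfsg.Agent.NCov
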