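import Mathlib
import Cfsg.Agent.NCov.Defs

set_option autoImplicit false

/-!
# NCov (S3894), `n = 2`: fixed points of elements of `PGL₂(F)` on the projective line (helper4)

Coordinates: the point of `v ≠ 0` is fixed by the class of `g` iff the binary quadratic form
`det [g v, v]` vanishes at `v`.

* `ncov_tf_mk_eq_iff`: `[v] = [w] ↔ v 0 * w 1 = v 1 * w 0`;
* `ncov_tf_smul_eq_iff`: `[g] • [v] = [w]` in coordinates;
* `ncov_tf_fix3` (= `hfix3` of `ncov_two_I`): an element fixing three distinct points is `1`;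
* `ncov_tf_swap` (= `hswap`): an element swapping two distinct points has square `1`;
* `ncov_tf_mk_eq_one`: the class of a scalar matrix is `1`.
-/

namespace Cfsg.Agent.NCov

open scoped LinearAlgebra.Projectivization MatrixGroups
open Matrix

variable {F : Type*} [Field F]

theorem ncov_tf_mk_eq_iff {v w : Fin 2 → F} (hv : v ≠ 0) (hw : w ≠ 0) :
    (Projectivization.mk F v hv : ncov_Pt 2 F) = Projectivization.mk F w hw ↔
      v 0 * w 1 = v 1 * w 0 := by
  rw [Projectivization.mk_eq_mk_iff]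
  constructor
  · rintro ⟨a, rfl⟩
    simp only [Pi.smul_apply, Units.smul_def, smul_eq_mul]
    ring
  · intro h
    by_cases hw0 : w 0 = 0
    · have hw1 : w 1 ≠ 0 := by
        intro hw1
        apply hw
        funext i
        fin_cases i
        · exact hw0
        · exact hw1
      have hv0 : v 0 = 0 := by
        rw [hw0, mul_zero] at h
        rcases mul_eq_zero.mp h with h | h
        · exact h
        · exact absurd h hw1
      have hv1 : v 1 ≠ 0 := by
        intro hv1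
        apply hv
        funext i
        fin_cases i
        · exact hv0
        · exact hv1
      refine ⟨Units.mk0 (v 1 / w 1) (div_ne_zero hv1 hw1), ?_⟩
      funext i
      fin_cases i
      · simp [hw0, hv0]
      · simp only [Units.smul_def, Units.val_mk0, Pi.smul_apply, smul_eq_mul, Fin.mk_one, Fin.isValue]
        field_simp
    · have hv0 : v 0 ≠ 0 := by
        intro hv0
        rw [hv0, zero_mul] at h
        have hv1 : v 1 = 0 := by
          rcases mul_eq_zero.mp h.symm with h | h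
          · exact h
          · exact absurd h hw0
        apply hv
        funext i
        fin_cases i
        · exact hv0
        · exact hv1
      refine ⟨Units.mk0 (v 0 / w 0) (div_ne_zero hv0 hw0), ?_⟩
      funext i
      fin_cases i
      · simp only [Units.smul_def, Units.val_mk0, Pi.smul_apply, smul_eq_mul, Fin.zero_eta, Fin.isValue]
        field_simp
      · simp only [Units.smul_def, Units.val_mk0, Pi.smul_apply, smul_eq_mul, Fin.mk_one, Fin.isValue]
        field_simp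
        linear_combination h

theorem ncov_tf_smul_apply (g : GL (Fin 2) F) (v : Fin 2 → F) (i : Fin 2) :
    (g • v) i = (g : Matrix (Fin 2) (Fin 2) F) i 0 * v 0 + (g : Matrix (Fin 2) (Fin 2) F) i 1 * v 1 := by
  rw [ncov_gl_smul, Matrix.mulVec, dotProduct, Fin.sum_univ_two]

/-- `[g] • [v] = [w]` in coordinates. -/
theorem ncov_tf_smul_eq_iff (g : GL (Fin 2) F) {v w : Fin 2 → F} (hv : v ≠ 0) (hw : w ≠ 0) :
    ((QuotientGroup.mk g : ncov_Γ 2 F)) • (Projectivization.mk F v hv : ncov_Pt 2 F) =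
        Projectivization.mk F w hw ↔
      ((g : Matrix (Fin 2) (Fin 2) F) 0 0 * v 0 + (g : Matrix (Fin 2) (Fin 2) F) 0 1 * v 1) * w 1 =
        ((g : Matrix (Fin 2) (Fin 2) F) 1 0 * v 0 + (g : Matrix (Fin 2) (Fin 2) F) 1 1 * v 1) * w 0 := by
  rw [ncov_mk_smul_mk, ncov_tf_mk_eq_iff, ncov_tf_smul_apply, ncov_tf_smul_apply]

/-- The class of a scalar matrix is `1`. -/
theorem ncov_tf_mk_eq_one (g : GL (Fin 2) F) (c : F)
    (h : (g : Matrix (Fin 2) (Fin 2) F) = c • (1 : Matrix (Fin 2) (Fin 2) F)) :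
    (QuotientGroup.mk g : ncov_Γ 2 F) = 1 := by
  rw [QuotientGroup.eq_one_iff, Subgroup.mem_center_iff]
  intro k
  apply Units.ext
  rw [Units.val_mul, Units.val_mul, h, Matrix.mul_smul, Matrix.smul_mul, mul_one, one_mul]

/-- An element of `PGL₂(F)` fixing three distinct points of the projective line is `1`. -/
theorem ncov_tf_fix3 (γ : ncov_Γ 2 F) (a b c : ncov_Pt 2 F) (hab : a ≠ b) (hac : a ≠ c) (hbc : b ≠ c)
    (ha : γ • a = a) (hb : γ • b = b) (hc : γ • c = c) : γ = 1 := by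
  induction γ using QuotientGroup.induction_on with | _ g =>
  induction a using Projectivization.ind with | _ v₁ hv₁ =>
  induction b using Projectivization.ind with | _ v₂ hv₂ =>
  induction c using Projectivization.ind with | _ v₃ hv₃ =>
  rw [ncov_tf_smul_eq_iff] at ha hb hc
  rw [Ne, ncov_tf_mk_eq_iff] at hab hac hbc
  set M := (g : Matrix (Fin 2) (Fin 2) F) with hM
  set x₁ := v₁ 0
  set y₁ := v₁ 1
  set x₂ := v₂ 0
  set y₂ := v₂ 1
  set x₃ := v₃ 0
  set y₃ := v₃ 1
  have hd12 : x₁ * y₂ - y₁ * x₂ ≠ 0 := fun h => hab (by linear_combination h)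
  have hd13 : x₁ * y₃ - y₁ * x₃ ≠ 0 := fun h => hac (by linear_combination h)
  have hd23 : x₂ * y₃ - y₂ * x₃ ≠ 0 := fun h => hbc (by linear_combination h)
  have hD : (x₁ * y₂ - y₁ * x₂) * (x₁ * y₃ - y₁ * x₃) * (x₂ * y₃ - y₂ * x₃) ≠ 0 :=
    mul_ne_zero (mul_ne_zero hd12 hd13) hd23
  -- the quadratic form Q(x, y) = -M10 x² + (M00 - M11) x y + M01 y² vanishes at the three points
  have e1 : -(M 1 0) * x₁ ^ 2 + (M 0 0 - M 1 1) * (x₁ * y₁) + M 0 1 * y₁ ^ 2 = 0 := by
    linear_combination ha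
  have e2 : -(M 1 0) * x₂ ^ 2 + (M 0 0 - M 1 1) * (x₂ * y₂) + M 0 1 * y₂ ^ 2 = 0 := by
    linear_combination hb
  have e3 : -(M 1 0) * x₃ ^ 2 + (M 0 0 - M 1 1) * (x₃ * y₃) + M 0 1 * y₃ ^ 2 = 0 := by
    linear_combination hc
  have hA : -(M 1 0) * ((x₁ * y₂ - y₁ * x₂) * (x₁ * y₃ - y₁ * x₃) * (x₂ * y₃ - y₂ * x₃)) = 0 := by
    linear_combination (y₂ * y₃ * (x₂ * y₃ - x₃ * y₂)) * e1 -
      (y₁ * y₃ * (x₁ * y₃ - x₃ * y₁)) * e2 + (y₁ * y₂ * (x₁ * y₂ - x₂ * y₁)) * e3
  have hC : (M 0 1) * ((x₁ * y₂ - y₁ * x₂) * (x₁ * y₃ - y₁ * x₃) * (x₂ * y₃ - y₂ * x₃)) = 0 := by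
    linear_combination (x₂ * x₃ * (x₂ * y₃ - x₃ * y₂)) * e1 -
      (x₁ * x₃ * (x₁ * y₃ - x₃ * y₁)) * e2 + (x₁ * x₂ * (x₁ * y₂ - x₂ * y₁)) * e3
  have hB : (M 0 0 - M 1 1) * ((x₁ * y₂ - y₁ * x₂) * (x₁ * y₃ - y₁ * x₃) * (x₂ * y₃ - y₂ * x₃)) = 0 := by
    linear_combination (-(x₂ * y₃ + x₃ * y₂) * (x₂ * y₃ - x₃ * y₂)) * e1 +
      ((x₁ * y₃ + x₃ * y₁) * (x₁ * y₃ - x₃ * y₁)) * e2 -
      ((x₁ * y₂ + x₂ * y₁) * (x₁ * y₂ - x₂ * y₁)) * e3
  have h10 : M 1 0 = 0 := by
    rcases mul_eq_zero.mp hA with h | h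
    · exact neg_eq_zero.mp h
    · exact absurd h hD
  have h01 : M 0 1 = 0 := by
    rcases mul_eq_zero.mp hC with h | h
    · exact h
    · exact absurd h hD
  have h00 : M 0 0 = M 1 1 := by
    rcases mul_eq_zero.mp hB with h | h
    · exact sub_eq_zero.mp h
    · exact absurd h hD
  apply ncov_tf_mk_eq_one g (M 0 0)
  rw [← hM]
  ext i j
  fin_cases i <;> fin_cases j
  · simp
  · simp [h01]
  · simp [h10]
  · simp [h00]

/-- An element of `PGL₂(F)` swapping two distinct points of the projective line has square `1`. -/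
theorem ncov_tf_swap (γ : ncov_Γ 2 F) (a b : ncov_Pt 2 F) (hab : a ≠ b)
    (h1 : γ • a = b) (h2 : γ • b = a) : γ * γ = 1 := by
  induction γ using QuotientGroup.induction_on with | _ g =>
  induction a using Projectivization.ind with | _ v hv =>
  induction b using Projectivization.ind with | _ w hw =>
  rw [ncov_tf_smul_eq_iff] at h1 h2
  rw [Ne, ncov_tf_mk_eq_iff] at hab
  set M := (g : Matrix (Fin 2) (Fin 2) F) with hM
  have hd : v 0 * w 1 - v 1 * w 0 ≠ 0 := fun h => hab (by linear_combination h)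
  have htr : (M 0 0 + M 1 1) * (v 0 * w 1 - v 1 * w 0) = 0 := by
    linear_combination h1 - h2
  have htr0 : M 0 0 + M 1 1 = 0 := by
    rcases mul_eq_zero.mp htr with h | h
    · exact h
    · exact absurd h hd
  have h11 : M 1 1 = -M 0 0 := by linear_combination htr0
  rw [← QuotientGroup.mk_mul]
  apply ncov_tf_mk_eq_one (g * g) (M 0 0 * M 0 0 + M 0 1 * M 1 0)
  rw [Units.val_mul, ← hM]
  ext i j
  fin_cases i <;> fin_cases j
  · simp [Matrix.mul_apply, Fin.sum_univ_two]
  · simp [Matrix.mul_apply, Fin.sum_univ_two, h11]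
    ring
  · simp [Matrix.mul_apply, Fin.sum_univ_two, h11]
    ring
  · simp [Matrix.mul_apply, Fin.sum_univ_two, h11]
    ring

end Cfsg.Agent.NCov
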