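import Mathlib
import Cfsg.Agent.NCov.TwoFix

set_option autoImplicit false

/-!
# NCov (S3894), `n = 2`: transport by conjugation and the base unipotent element (helper4)

* `ncov_tc_hu`: a transitive group containing ONE `p`-element with exactly one fixed point contains one
  for every point (hypothesis `hu` of `ncov_two_I` / `ncov_two_III`);
* `ncov_tc_ht`: a 2-transitive group containing ONE element `t₀` with exactly two fixed points and
  `t₀ * t₀ ≠ 1` contains one for every pair of points (hypothesis `ht` of `ncov_two_I`);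
* `ncov_tc_U`: the unipotent `!![1, 1; 0, 1] ∈ SL₂(F)`; `ncov_tc_U_pow`: its `p`-th power is `1` in
  characteristic `p`; `ncov_tc_U_fix`: its image in `PGL₂(F)` fixes exactly the point `[e₀]`;
* `ncov_tc_diag_fix`: the class of an invertible matrix `!![a, 0; 0, b]` with `a ≠ b` fixes exactly
  `[e₀]` and `[e₁]`; `ncov_tc_diag_sq`: its square is not `1` when `a ^ 2 ≠ b ^ 2`.
-/

namespace Cfsg.Agent.NCov

open scoped LinearAlgebra.Projectivization MatrixGroups
open Matrix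

section abstract

variable {G Ω : Type*} [Group G] [MulAction G Ω]

theorem ncov_tc_conj_smul_iff (k t : G) (c : Ω) :
    (k * t * k⁻¹) • c = c ↔ t • (k⁻¹ • c) = k⁻¹ • c := by
  rw [mul_smul, mul_smul, smul_eq_iff_eq_inv_smul]

theorem ncov_tc_hu (p : ℕ) (htr : ∀ a b : Ω, ∃ g : G, g • a = b) (u₀ : G) (ω₀ : Ω)
    (hpow : ∃ k : ℕ, u₀ ^ p ^ k = 1) (hfix : ∀ c, u₀ • c = c ↔ c = ω₀) :
    ∀ ω : Ω, ∃ u : G, (∃ k : ℕ, u ^ p ^ k = 1) ∧ ∀ ω', u • ω' = ω' ↔ ω' = ω := by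
  intro ω
  obtain ⟨g, hg⟩ := htr ω₀ ω
  obtain ⟨k, hk⟩ := hpow
  refine ⟨g * u₀ * g⁻¹, ⟨k, ?_⟩, ?_⟩
  · rw [conj_pow, hk, mul_one, mul_inv_cancel]
  · intro c
    rw [ncov_tc_conj_smul_iff, hfix, inv_smul_eq_iff, hg]

theorem ncov_tc_ht (h2tr : ∀ a b c d : Ω, a ≠ b → c ≠ d → ∃ g : G, g • a = c ∧ g • b = d)
    (t₀ : G) (α₀ β₀ : Ω) (hαβ : α₀ ≠ β₀) (hfix : ∀ c, t₀ • c = c ↔ (c = α₀ ∨ c = β₀))
    (hsq : t₀ * t₀ ≠ 1) :
    ∀ a b : Ω, a ≠ b → ∃ t : G, (∀ ω', t • ω' = ω' ↔ (ω' = a ∨ ω' = b)) ∧ t * t ≠ 1 := by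
  intro a b hab
  obtain ⟨g, hga, hgb⟩ := h2tr α₀ β₀ a b hαβ hab
  refine ⟨g * t₀ * g⁻¹, ?_, ?_⟩
  · intro c
    rw [ncov_tc_conj_smul_iff, hfix, inv_smul_eq_iff, inv_smul_eq_iff, hga, hgb]
  · intro h
    apply hsq
    have e : g * t₀ * g⁻¹ * (g * t₀ * g⁻¹) = g * (t₀ * t₀) * g⁻¹ := by group
    rw [e] at h
    have h2 : g⁻¹ * (g * (t₀ * t₀) * g⁻¹) * g = g⁻¹ * 1 * g := by rw [h]
    have e2 : g⁻¹ * (g * (t₀ * t₀) * g⁻¹) * g = t₀ * t₀ := by group
    rw [e2] at h2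
    rw [h2]
    group

end abstract

section matrices

variable {F : Type*} [Field F]

/-- The point `[e₀]` of the projective line. -/
noncomputable def ncov_tc_e0 (F : Type*) [Field F] : ncov_Pt 2 F :=
  Projectivization.mk F ![1, 0] (by
    intro h
    have := congrFun h 0
    simp at this)

/-- The point `[e₁]` of the projective line. -/
noncomputable def ncov_tc_e1 (F : Type*) [Field F] : ncov_Pt 2 F :=
  Projectivization.mk F ![0, 1] (by
    intro h
    have := congrFun h 1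
    simp at this)

theorem ncov_tc_e0_ne_e1 : ncov_tc_e0 F ≠ ncov_tc_e1 F := by
  unfold ncov_tc_e0 ncov_tc_e1
  rw [Ne, ncov_tf_mk_eq_iff]
  simp

theorem ncov_tc_eq_e0_iff {v : Fin 2 → F} (hv : v ≠ 0) :
    (Projectivization.mk F v hv : ncov_Pt 2 F) = ncov_tc_e0 F ↔ v 1 = 0 := by
  unfold ncov_tc_e0
  rw [ncov_tf_mk_eq_iff]
  simp [eq_comm]

theorem ncov_tc_eq_e1_iff {v : Fin 2 → F} (hv : v ≠ 0) :
    (Projectivization.mk F v hv : ncov_Pt 2 F) = ncov_tc_e1 F ↔ v 0 = 0 := by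
  unfold ncov_tc_e1
  rw [ncov_tf_mk_eq_iff]
  simp

/-- The unipotent element `!![1, 1; 0, 1]` of `SL₂(F)`. -/
def ncov_tc_U (F : Type*) [Field F] : SpecialLinearGroup (Fin 2) F :=
  ⟨!![1, 1; 0, 1], by simp [Matrix.det_fin_two]⟩

theorem ncov_tc_U_pow_coe (m : ℕ) :
    (ncov_tc_U F ^ m).1 = !![1, (m : F); 0, 1] := by
  induction m with
  | zero =>
    show (1 : Matrix (Fin 2) (Fin 2) F) = _
    rw [Nat.cast_zero]
    exact Matrix.one_fin_two
  | succ m ih =>
    rw [pow_succ]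
    show (ncov_tc_U F ^ m).1 * (ncov_tc_U F).1 = _
    rw [ih]
    show !![1, (m : F); 0, 1] * !![1, 1; 0, 1] = _
    rw [Matrix.mul_fin_two, Nat.cast_succ]
    ext i j
    fin_cases i <;> fin_cases j <;> simp [add_comm]

theorem ncov_tc_U_pow (p : ℕ) [CharP F p] : ncov_tc_U F ^ p = 1 := by
  apply Subtype.ext
  rw [ncov_tc_U_pow_coe, CharP.cast_eq_zero F p]
  show _ = (1 : Matrix (Fin 2) (Fin 2) F)
  exact Matrix.one_fin_two.symm

/-- The image of `U` in `PGL₂(F)` is a `p`-element. -/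
theorem ncov_tc_slU_pow (p : ℕ) [CharP F p] : ∃ k : ℕ, (ncov_sl 2 F (ncov_tc_U F)) ^ p ^ k = 1 :=
  ⟨1, by rw [pow_one, ← map_pow, ncov_tc_U_pow, map_one]⟩

/-- The image of `U` in `PGL₂(F)` fixes exactly `[e₀]`. -/
theorem ncov_tc_U_fix (c : ncov_Pt 2 F) :
    ncov_sl 2 F (ncov_tc_U F) • c = c ↔ c = ncov_tc_e0 F := by
  induction c using Projectivization.ind with | _ v hv =>
  rw [ncov_sl_apply, ncov_tf_smul_eq_iff, ncov_tc_eq_e0_iff]
  simp only [SpecialLinearGroup.coe_GL_coe_matrix]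
  unfold ncov_tc_U
  simp only [Matrix.of_apply, Matrix.cons_val', Matrix.cons_val_zero, Matrix.cons_val_one,
    Matrix.cons_val_fin_one]
  constructor
  · intro h
    have h2 : v 1 * v 1 = 0 := by linear_combination h
    exact mul_self_eq_zero.mp h2
  · intro h
    rw [h]
    ring

/-- The class of an invertible matrix with `↑g = !![a, 0; 0, b]`, `a ≠ b`, fixes exactly `[e₀]` and `[e₁]`. -/
theorem ncov_tc_diag_fix (g : GL (Fin 2) F) (a b : F)
    (hg : (g : Matrix (Fin 2) (Fin 2) F) = !![a, 0; 0, b]) (hab : a ≠ b) (c : ncov_Pt 2 F) :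
    (QuotientGroup.mk g : ncov_Γ 2 F) • c = c ↔ (c = ncov_tc_e0 F ∨ c = ncov_tc_e1 F) := by
  induction c using Projectivization.ind with | _ v hv =>
  rw [ncov_tf_smul_eq_iff, ncov_tc_eq_e0_iff, ncov_tc_eq_e1_iff, hg]
  simp only [Matrix.of_apply, Matrix.cons_val', Matrix.cons_val_zero, Matrix.cons_val_one,
    Matrix.cons_val_fin_one]
  constructor
  · intro h
    have h2 : (a - b) * (v 0 * v 1) = 0 := by linear_combination h
    rcases mul_eq_zero.mp h2 with h3 | h3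
    · exact absurd (sub_eq_zero.mp h3) hab
    · rcases mul_eq_zero.mp h3 with h4 | h4
      · exact Or.inr h4
      · exact Or.inl h4
  · rintro (h | h)
    · rw [h]
      ring
    · rw [h]
      ring

/-- The square of the class of `!![a, 0; 0, b]` is not `1` when `a ^ 2 ≠ b ^ 2`. -/
theorem ncov_tc_diag_sq (g : GL (Fin 2) F) (a b : F)
    (hg : (g : Matrix (Fin 2) (Fin 2) F) = !![a, 0; 0, b]) (hab : a ^ 2 ≠ b ^ 2) :
    (QuotientGroup.mk g : ncov_Γ 2 F) * QuotientGroup.mk g ≠ 1 := by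
  intro h
  rw [← QuotientGroup.mk_mul, QuotientGroup.eq_one_iff, Subgroup.mem_center_iff] at h
  -- commute with the unipotent U
  have hU := h (SpecialLinearGroup.toGL (ncov_tc_U F))
  have hU' := congrArg (fun x : GL (Fin 2) F => (x : Matrix (Fin 2) (Fin 2) F) 0 1) hU
  simp only [Units.val_mul, hg, SpecialLinearGroup.coe_GL_coe_matrix] at hU'
  unfold ncov_tc_U at hU'
  simp only [Matrix.mul_fin_two, Matrix.of_apply, Matrix.cons_val', Matrix.cons_val_zero,
    Matrix.cons_val_one, Matrix.cons_val_fin_one] at hU'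
  apply hab
  linear_combination -hU'

end matrices

end Cfsg.Agent.NCov
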