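import Mathlib
import Cfsg.Agent.NCov.Defs
import Cfsg.Agent.NCov.TwoFix

set_option autoImplicit false

/-!
# NCov (S3894), `n = 2`: the base points, the diagonal elements, and the inputs of case (III) (helper9)

* `ncov_e0 F = [1 : 0]`, `ncov_e1 F = [0 : 1]`, `ncov_e01 F = [1 : 1]` on the projective line `ncov_Pt 2 F`;
* `ncov_dg a d : GL (Fin 2) F` is `diag(a, d)`, `ncov_d a d : ncov_Γ 2 F` its class;
* `ncov_t3_diag_fix`: for `a ≠ d` the class of `diag(a, d)` fixes exactly `[1 : 0]` and `[0 : 1]`;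
* `ncov_d_mul_self`: `ncov_d a d * ncov_d a d = 1 ↔ a * a = d * d`;
* `ncov_t3_xs`: for `|F| = 5` the class of `diag(2, 3) ∈ SL₂(5)` lies in the range of `ncov_sl 2 F` and fixes exactly
  `[1 : 0]` and `[0 : 1]`;
* `ncov_t3_swapfix`: for `|F| = 5`, the class of an element of `SL₂(F)` which swaps two points has a fixed point.
-/

namespace Cfsg.Agent.NCov

open scoped LinearAlgebra.Projectivization MatrixGroups
open Matrix

variable {F : Type*} [Field F]

/-! ### The base points -/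

theorem ncov_vec10_ne : (![1, 0] : Fin 2 → F) ≠ 0 := by
  intro h
  have := congrFun h 0
  simp at this

theorem ncov_vec01_ne : (![0, 1] : Fin 2 → F) ≠ 0 := by
  intro h
  have := congrFun h 1
  simp at this

theorem ncov_vec11_ne : (![1, 1] : Fin 2 → F) ≠ 0 := by
  intro h
  have := congrFun h 0
  simp at this

/-- The point `[1 : 0]`. -/
def ncov_e0 (F : Type*) [Field F] : ncov_Pt 2 F := Projectivization.mk F ![1, 0] ncov_vec10_ne

/-- The point `[0 : 1]`. -/
def ncov_e1 (F : Type*) [Field F] : ncov_Pt 2 F := Projectivization.mk F ![0, 1] ncov_vec01_ne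

/-- The point `[1 : 1]`. -/
def ncov_e01 (F : Type*) [Field F] : ncov_Pt 2 F := Projectivization.mk F ![1, 1] ncov_vec11_ne

theorem ncov_mk_eq_e0_iff {v : Fin 2 → F} (hv : v ≠ 0) :
    (Projectivization.mk F v hv : ncov_Pt 2 F) = ncov_e0 F ↔ v 1 = 0 := by
  unfold ncov_e0
  rw [ncov_tf_mk_eq_iff]
  simp
  exact eq_comm

theorem ncov_mk_eq_e1_iff {v : Fin 2 → F} (hv : v ≠ 0) :
    (Projectivization.mk F v hv : ncov_Pt 2 F) = ncov_e1 F ↔ v 0 = 0 := by
  unfold ncov_e1
  rw [ncov_tf_mk_eq_iff]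
  simp

theorem ncov_mk_eq_e01_iff {v : Fin 2 → F} (hv : v ≠ 0) :
    (Projectivization.mk F v hv : ncov_Pt 2 F) = ncov_e01 F ↔ v 0 = v 1 := by
  unfold ncov_e01
  rw [ncov_tf_mk_eq_iff]
  simp

theorem ncov_e0_ne_e1 : ncov_e0 F ≠ ncov_e1 F := by
  unfold ncov_e0
  rw [Ne, ncov_mk_eq_e1_iff]
  simp

theorem ncov_e01_ne_e0 : ncov_e01 F ≠ ncov_e0 F := by
  unfold ncov_e01
  rw [Ne, ncov_mk_eq_e0_iff]
  simp

theorem ncov_e01_ne_e1 : ncov_e01 F ≠ ncov_e1 F := by
  unfold ncov_e01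
  rw [Ne, ncov_mk_eq_e1_iff]
  simp

/-! ### Diagonal elements -/

/-- `diag(a, d)` in `GL₂(F)`. -/
def ncov_dg (a d : Fˣ) : GL (Fin 2) F :=
  ⟨!![(a : F), 0; 0, (d : F)], !![((a⁻¹ : Fˣ) : F), 0; 0, ((d⁻¹ : Fˣ) : F)],
    by
      ext i j
      fin_cases i <;> fin_cases j <;> simp [Matrix.mul_apply, Fin.sum_univ_two],
    by
      ext i j
      fin_cases i <;> fin_cases j <;> simp [Matrix.mul_apply, Fin.sum_univ_two]⟩

theorem ncov_dg_coe (a d : Fˣ) :
    ((ncov_dg a d : GL (Fin 2) F) : Matrix (Fin 2) (Fin 2) F) = !![(a : F), 0; 0, (d : F)] := rfl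

/-- The class of `diag(a, d)` in `PGL₂(F)`. -/
def ncov_d (a d : Fˣ) : ncov_Γ 2 F := (QuotientGroup.mk (ncov_dg a d) : ncov_Γ 2 F)

theorem ncov_dg_mul (a d a' d' : Fˣ) : ncov_dg a d * ncov_dg a' d' = ncov_dg (a * a') (d * d') := by
  apply Units.ext
  rw [Units.val_mul, ncov_dg_coe, ncov_dg_coe, ncov_dg_coe]
  ext i j
  fin_cases i <;> fin_cases j <;> simp [Matrix.mul_apply, Fin.sum_univ_two]

theorem ncov_d_mul (a d a' d' : Fˣ) : ncov_d a d * ncov_d a' d' = ncov_d (a * a') (d * d') := by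
  unfold ncov_d
  rw [← QuotientGroup.mk_mul, ncov_dg_mul]

/-- For `a ≠ d` the class of `diag(a, d)` fixes exactly `[1 : 0]` and `[0 : 1]`. -/
theorem ncov_t3_diag_fix (a d : Fˣ) (had : a ≠ d) (ω : ncov_Pt 2 F) :
    ncov_d a d • ω = ω ↔ (ω = ncov_e0 F ∨ ω = ncov_e1 F) := by
  induction ω using Projectivization.ind with | _ v hv =>
  unfold ncov_d
  rw [ncov_tf_smul_eq_iff, ncov_mk_eq_e0_iff, ncov_mk_eq_e1_iff, ncov_dg_coe]
  have hne : (a : F) - (d : F) ≠ 0 := by
    intro h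
    apply had
    apply Units.ext
    exact sub_eq_zero.mp h
  constructor
  · intro h
    have h' : ((a : F) - (d : F)) * (v 0 * v 1) = 0 := by
      simp at h
      linear_combination h
    rcases mul_eq_zero.mp h' with h1 | h1
    · exact absurd h1 hne
    · rcases mul_eq_zero.mp h1 with h2 | h2
      · exact Or.inr h2
      · exact Or.inl h2
  · rintro (h | h)
    · simp [h]
    · simp [h]

theorem ncov_d_self (a : Fˣ) : ncov_d a a = 1 := by
  unfold ncov_d
  apply ncov_tf_mk_eq_one _ (a : F)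
  rw [ncov_dg_coe]
  ext i j
  fin_cases i <;> fin_cases j <;> simp

theorem ncov_d_eq_one_iff (a d : Fˣ) : ncov_d a d = 1 ↔ a = d := by
  constructor
  · intro h
    by_contra had
    have h1 := (ncov_t3_diag_fix a d had (ncov_e01 F)).mp (by rw [h, one_smul])
    rcases h1 with h1 | h1
    · exact ncov_e01_ne_e0 h1
    · exact ncov_e01_ne_e1 h1
  · rintro rfl
    exact ncov_d_self a

/-- The square of the class of `diag(a, d)` is `1` iff `a² = d²`. -/
theorem ncov_d_mul_self (a d : Fˣ) : ncov_d a d * ncov_d a d = 1 ↔ a * a = d * d := by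
  rw [ncov_d_mul, ncov_d_eq_one_iff]

/-! ### `q = 5` -/

theorem ncov_five_eq_zero [Finite F] (hq : Nat.card F = 5) : (5 : F) = 0 := by
  have := Fintype.ofFinite F
  have h := Nat.cast_card_eq_zero F
  rw [← Nat.card_eq_fintype_card, hq] at h
  exact_mod_cast h

/-- `diag(2, 3) ∈ SL₂(F)` for `|F| = 5`. -/
def ncov_t3_x [Finite F] (hq : Nat.card F = 5) : SpecialLinearGroup (Fin 2) F :=
  ⟨!![(2 : F), 0; 0, (3 : F)], by
    rw [Matrix.det_fin_two_of]
    have := ncov_five_eq_zero hq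
    linear_combination this⟩

theorem ncov_t3_xs [Finite F] (hq : Nat.card F = 5) :
    ∃ xs ∈ (ncov_sl 2 F).range, ∀ ω : ncov_Pt 2 F, xs • ω = ω ↔ (ω = ncov_e0 F ∨ ω = ncov_e1 F) := by
  have h5 := ncov_five_eq_zero hq
  have h2 : (2 : F) ≠ 0 := by
    intro h
    have h1 : (1 : F) = 0 := by linear_combination h5 - 2 * h
    exact one_ne_zero h1
  have h3 : (3 : F) ≠ 0 := by
    intro h
    have h1 : (1 : F) = 0 := by linear_combination 2 * h - h5
    exact one_ne_zero h1
  refine ⟨ncov_sl 2 F (ncov_t3_x hq), ⟨_, rfl⟩, ?_⟩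
  have hx : ncov_sl 2 F (ncov_t3_x hq) = ncov_d (Units.mk0 2 h2) (Units.mk0 3 h3) := by
    rw [ncov_sl_apply]
    unfold ncov_d
    congr 1
    apply Units.ext
    rfl
  intro ω
  rw [hx]
  apply ncov_t3_diag_fix
  intro h
  have := congrArg Units.val h
  simp only [Units.val_mk0] at this
  have h1 : (1 : F) = 0 := by linear_combination -this
  exact one_ne_zero h1

/-- For `|F| = 5`: the class of an element of `SL₂(F)` which swaps two points of the projective line has a fixed point. -/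
theorem ncov_t3_swapfix [Finite F] (hq : Nat.card F = 5) (A : SpecialLinearGroup (Fin 2) F)
    (a b : ncov_Pt 2 F) (hab : a ≠ b) (h1 : ncov_sl 2 F A • a = b) (h2 : ncov_sl 2 F A • b = a) :
    ∃ c : ncov_Pt 2 F, ncov_sl 2 F A • c = c := by
  have h5 := ncov_five_eq_zero hq
  induction a using Projectivization.ind with | _ v hv =>
  induction b using Projectivization.ind with | _ w hw =>
  rw [ncov_sl_apply] at h1 h2 ⊢
  rw [ncov_tf_smul_eq_iff] at h1 h2
  rw [Ne, ncov_tf_mk_eq_iff] at hab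
  have hcoe : ((SpecialLinearGroup.toGL A : GL (Fin 2) F) : Matrix (Fin 2) (Fin 2) F) =
      (A : Matrix (Fin 2) (Fin 2) F) := rfl
  rw [hcoe] at h1 h2
  set M := (A : Matrix (Fin 2) (Fin 2) F) with hM
  have hdet : M 0 0 * M 1 1 - M 0 1 * M 1 0 = 1 := by
    have := A.2
    rw [Matrix.det_fin_two] at this
    exact this
  have hd : v 0 * w 1 - v 1 * w 0 ≠ 0 := fun h => hab (by linear_combination h)
  have htr : (M 0 0 + M 1 1) * (v 0 * w 1 - v 1 * w 0) = 0 := by
    linear_combination h1 - h2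
  have htr0 : M 0 0 + M 1 1 = 0 := by
    rcases mul_eq_zero.mp htr with h | h
    · exact h
    · exact absurd h hd
  have h11 : M 1 1 = -M 0 0 := by linear_combination htr0
  by_cases hr : M 1 0 = 0
  · refine ⟨ncov_e0 F, ?_⟩
    unfold ncov_e0
    rw [ncov_tf_smul_eq_iff, hcoe]
    simp [hr]
  · have hne : (![M 0 0 + 2, M 1 0] : Fin 2 → F) ≠ 0 := by
      intro h
      have := congrFun h 1
      simp at this
      exact hr this
    refine ⟨Projectivization.mk F _ hne, ?_⟩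
    rw [ncov_tf_smul_eq_iff, hcoe]
    simp only [Matrix.cons_val_zero, Matrix.cons_val_one]
    rw [h11] at hdet ⊢
    linear_combination (-(M 1 0)) * hdet - (M 1 0) * h5

end Cfsg.Agent.NCov
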