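import Mathlib
import Cfsg.Agent.NCov.Defs
import Cfsg.Agent.NCov.TwoFix
import Cfsg.Agent.NCov.TwoIII

set_option autoImplicit false

/-!
# NCov (S3894), `n = 2`: field facts and the element `t₀` of cases (I) and (II) (helper9)

* `ncov_ff_exists_pow_four_ne_one`: `4 ≤ q`, `q ≠ 5` ⇒ some `α : Fˣ` has `α ^ 4 ≠ 1`;
* `ncov_ff_mk_mem_range`: the class of `g ∈ GL₂(F)` with `det g` a square lies in the image of `SL₂(F)`;
* `ncov_ff_diag_mem`: if `G ≥ PSL₂` contains the class of `g`, it contains the class of `diag(1, det g)`;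
* `ncov_ff_caseI`, `ncov_ff_caseII`: the element `t₀` (fixing exactly `[1:0]`, `[0:1]`, with `t₀² ≠ 1`);
* `ncov_ff_cases`: either `G` contains such a `t₀`, or `q = 5` and `G` is the image of `SL₂(5)`.
-/

namespace Cfsg.Agent.NCov

open scoped LinearAlgebra.Projectivization MatrixGroups
open Matrix

variable {F : Type*} [Field F]

theorem ncov_ff_exists_pow_four_ne_one [Finite F] (h4 : 4 ≤ Nat.card F) (h5 : Nat.card F ≠ 5) :
    ∃ α : Fˣ, α ^ 4 ≠ 1 := by
  classical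
  have := Fintype.ofFinite F
  by_contra hcon
  push Not at hcon
  obtain ⟨g, hg⟩ := IsCyclic.exists_generator (α := Fˣ)
  have h1 : orderOf g = Nat.card Fˣ := orderOf_eq_card_of_forall_mem_zpowers hg
  have h2 : orderOf g ∣ 4 := orderOf_dvd_of_pow_eq_one (hcon g)
  have h3 : Nat.card Fˣ = Nat.card F - 1 := by
    rw [Nat.card_eq_fintype_card, Nat.card_eq_fintype_card, Fintype.card_units]
  rw [h1, h3] at h2
  have h6 : Nat.card F - 1 ≤ 4 := Nat.le_of_dvd (by norm_num) h2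
  have h7 : Nat.card F = 4 := by omega
  rw [h7] at h2
  norm_num at h2

/-- The class of a matrix whose determinant is a square lies in the image of `SL₂(F)`. -/
theorem ncov_ff_mk_mem_range (g : GL (Fin 2) F) (c : Fˣ)
    (h : (g : Matrix (Fin 2) (Fin 2) F).det = (c : F) * (c : F)) :
    (QuotientGroup.mk g : ncov_Γ 2 F) ∈ (ncov_sl 2 F).range := by
  set M := (g : Matrix (Fin 2) (Fin 2) F) with hM
  have hc : (c : F) ≠ 0 := c.ne_zero
  have hdet : (((c⁻¹ : Fˣ) : F) • M).det = 1 := by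
    rw [Matrix.det_smul, Fintype.card_fin, h, Units.val_inv_eq_inv_val]
    field_simp
  obtain ⟨A, hA⟩ : ∃ A : SpecialLinearGroup (Fin 2) F,
      (A : Matrix (Fin 2) (Fin 2) F) = ((c⁻¹ : Fˣ) : F) • M := ⟨⟨_, hdet⟩, rfl⟩
  refine ⟨A, ?_⟩
  rw [ncov_sl_apply]
  have hprod : g = ncov_dg c c * SpecialLinearGroup.toGL A := by
    apply Units.ext
    rw [Units.val_mul, ncov_dg_coe]
    have hcoe : ((SpecialLinearGroup.toGL A : GL (Fin 2) F) : Matrix (Fin 2) (Fin 2) F) =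
        (A : Matrix (Fin 2) (Fin 2) F) := rfl
    rw [hcoe, hA, ← hM]
    ext i j
    fin_cases i <;> fin_cases j <;>
      simp [Matrix.mul_apply, Fin.sum_univ_two, Units.val_inv_eq_inv_val, hc]
  have h1 : (QuotientGroup.mk g : ncov_Γ 2 F) =
      ncov_d c c * (QuotientGroup.mk (SpecialLinearGroup.toGL A) : ncov_Γ 2 F) := by
    unfold ncov_d
    rw [← QuotientGroup.mk_mul, ← hprod]
  rw [h1, ncov_d_self, one_mul]

/-- The determinant of `g ∈ GL₂(F)` as a unit. -/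
noncomputable def ncov_ff_det (g : GL (Fin 2) F) : Fˣ := Matrix.GeneralLinearGroup.det g

theorem ncov_ff_det_coe (g : GL (Fin 2) F) :
    ((ncov_ff_det g : Fˣ) : F) = (g : Matrix (Fin 2) (Fin 2) F).det := rfl

/-- If `G ≥ PSL₂(F)` contains the class of `g`, it contains the class of `diag(1, det g)`. -/
theorem ncov_ff_diag_mem (G : Subgroup (ncov_Γ 2 F)) (hG : (ncov_sl 2 F).range ≤ G)
    (g : GL (Fin 2) F) (hg : (QuotientGroup.mk g : ncov_Γ 2 F) ∈ G) :
    ncov_d 1 (ncov_ff_det g) ∈ G := by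
  have h1 : (QuotientGroup.mk (ncov_dg 1 (ncov_ff_det g) * g⁻¹) : ncov_Γ 2 F) ∈ (ncov_sl 2 F).range := by
    apply ncov_ff_mk_mem_range _ 1
    rw [Units.val_mul, Matrix.det_mul, ncov_dg_coe, Matrix.det_fin_two_of, ncov_ff_det_coe]
    have h2 : ((g⁻¹ : GL (Fin 2) F) : Matrix (Fin 2) (Fin 2) F).det *
        (g : Matrix (Fin 2) (Fin 2) F).det = 1 := by
      rw [← Matrix.det_mul, ← Units.val_mul, inv_mul_cancel, Units.val_one, Matrix.det_one]
    simp only [Units.val_one, one_mul, mul_zero, sub_zero, mul_one]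
    rw [mul_comm]
    exact h2
  have h3 : ncov_d 1 (ncov_ff_det g) =
      (QuotientGroup.mk (ncov_dg 1 (ncov_ff_det g) * g⁻¹) : ncov_Γ 2 F) * QuotientGroup.mk g := by
    unfold ncov_d
    rw [← QuotientGroup.mk_mul, inv_mul_cancel_right]
  rw [h3]
  exact G.mul_mem (hG h1) hg

/-- Case (I): some `α` with `α⁴ ≠ 1`. -/
theorem ncov_ff_caseI (α : Fˣ) (hα : α ^ 4 ≠ 1) :
    ∃ t₀ ∈ (ncov_sl 2 F).range,
      (∀ ω : ncov_Pt 2 F, t₀ • ω = ω ↔ (ω = ncov_e0 F ∨ ω = ncov_e1 F)) ∧ t₀ * t₀ ≠ 1 := by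
  refine ⟨ncov_d α α⁻¹, ?_, ?_, ?_⟩
  · unfold ncov_d
    apply ncov_ff_mk_mem_range _ 1
    rw [ncov_dg_coe, Matrix.det_fin_two_of]
    simp
  · apply ncov_t3_diag_fix
    intro h
    apply hα
    have h2 : α * α = 1 := by
      calc α * α = α * α⁻¹ := by rw [← h]
        _ = 1 := mul_inv_cancel α
    calc α ^ 4 = (α * α) * (α * α) := by simp only [pow_succ, pow_zero, one_mul, mul_assoc]
      _ = 1 := by rw [h2, one_mul]
  · rw [Ne, ncov_d_mul_self]
    intro h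
    apply hα
    calc α ^ 4 = (α * α) * (α * α) := by simp only [pow_succ, pow_zero, one_mul, mul_assoc]
      _ = (α⁻¹ * α⁻¹) * (α * α) := by rw [h]
      _ = 1 := by group

/-- For `|F| = 5`: a unit `d` with `d * d = 1` is a square. -/
theorem ncov_ff_sq_of_mul_self [Finite F] (hq : Nat.card F = 5) (d : Fˣ) (hd : d * d = 1) :
    ∃ c : Fˣ, d = c * c := by
  have h5 := ncov_five_eq_zero hq
  have h2 : (2 : F) ≠ 0 := by
    intro h
    have h1 : (1 : F) = 0 := by linear_combination h5 - 2 * h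
    exact one_ne_zero h1
  have hd' : (d : F) * (d : F) = 1 := by
    rw [← Units.val_mul, hd, Units.val_one]
  rcases mul_self_eq_one_iff.mp hd' with h | h
  · refine ⟨1, ?_⟩
    apply Units.ext
    rw [h]
    simp
  · refine ⟨Units.mk0 2 h2, ?_⟩
    apply Units.ext
    rw [h, Units.val_mul, Units.val_mk0]
    linear_combination -h5

/-- Case (II): `q = 5` and `G` is not contained in the image of `SL₂(5)`. -/
theorem ncov_ff_caseII [Finite F] (hq : Nat.card F = 5) (G : Subgroup (ncov_Γ 2 F))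
    (hG : (ncov_sl 2 F).range ≤ G) (hnot : ¬ G ≤ (ncov_sl 2 F).range) :
    ∃ t₀ ∈ G,
      (∀ ω : ncov_Pt 2 F, t₀ • ω = ω ↔ (ω = ncov_e0 F ∨ ω = ncov_e1 F)) ∧ t₀ * t₀ ≠ 1 := by
  rw [SetLike.not_le_iff_exists] at hnot
  obtain ⟨γ, hγG, hγ⟩ := hnot
  induction γ using QuotientGroup.induction_on with | _ g =>
  have hns : ¬ ∃ c : Fˣ, ncov_ff_det g = c * c := by
    rintro ⟨c, hc⟩
    apply hγ
    apply ncov_ff_mk_mem_range g c
    rw [← ncov_ff_det_coe, hc, Units.val_mul]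
  refine ⟨ncov_d 1 (ncov_ff_det g), ncov_ff_diag_mem G hG g hγG, ?_, ?_⟩
  · apply ncov_t3_diag_fix
    intro h
    apply hns
    exact ⟨1, by rw [← h, one_mul]⟩
  · rw [Ne, ncov_d_mul_self]
    intro h
    apply hns
    apply ncov_ff_sq_of_mul_self hq
    rw [← h, one_mul]

/-- The case distinction for `n = 2`, `q ≥ 4`. -/
theorem ncov_ff_cases [Finite F] (h4 : 4 ≤ Nat.card F) (G : Subgroup (ncov_Γ 2 F))
    (hG : (ncov_sl 2 F).range ≤ G) :
    (∃ t₀ ∈ G, (∀ ω : ncov_Pt 2 F, t₀ • ω = ω ↔ (ω = ncov_e0 F ∨ ω = ncov_e1 F)) ∧ t₀ * t₀ ≠ 1) ∨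
      (Nat.card F = 5 ∧ G = (ncov_sl 2 F).range) := by
  by_cases h5 : Nat.card F = 5
  · by_cases hle : G ≤ (ncov_sl 2 F).range
    · exact Or.inr ⟨h5, le_antisymm hle hG⟩
    · exact Or.inl (ncov_ff_caseII h5 G hG hle)
  · obtain ⟨α, hα⟩ := ncov_ff_exists_pow_four_ne_one h4 h5
    obtain ⟨t₀, ht₀, h1, h2⟩ := ncov_ff_caseI α hα
    exact Or.inl ⟨t₀, hG ht₀, h1, h2⟩

end Cfsg.Agent.NCov
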