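import Mathlib
import Cfsg.Agent.NCov.Defs
import Cfsg.Agent.NCov.Act
import Cfsg.Agent.NCov.TwoAbs
import Cfsg.Agent.NCov.TwoFix
import Cfsg.Agent.NCov.TwoConj
import Cfsg.Agent.NCov.TwoIII
import Cfsg.Agent.NCov.TwoField

set_option autoImplicit false

/-!
# S3894, case `n = 2`, `q ≥ 4`: the glue (helper9; backup of helper3's `TwoInst`)
-/

namespace Cfsg.Agent.NCov

open scoped LinearAlgebra.Projectivization MatrixGroups
open Matrix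

/-- **S3894, the case `n = 2`**, with the hypothesis and the conclusion of the statement verbatim. -/
theorem ncov_tg_two {F : Type*} [Field F] [Fintype F] (hq : 4 ≤ Fintype.card F)
    (G : Subgroup (GL (Fin 2) F ⧸ Subgroup.center (GL (Fin 2) F)))
    (hG : ((Matrix.SpecialLinearGroup.toGL : Matrix.SpecialLinearGroup (Fin 2) F →* GL (Fin 2) F).range).map
      (QuotientGroup.mk' (Subgroup.center (GL (Fin 2) F))) ≤ G) :
    ¬ ∃ 𝓐 : Finset (Subgroup ↥G), ((∀ A ∈ 𝓐, A ≠ ⊤) ∧ (∀ g : ↥G, ∃ A ∈ 𝓐, g ∈ A)) ∧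
      (∀ 𝓑 : Finset (Subgroup ↥G), (∀ A ∈ 𝓑, A ≠ ⊤) ∧ (∀ g : ↥G, ∃ A ∈ 𝓑, g ∈ A) → 𝓐.card ≤ 𝓑.card) ∧
      (∀ A ∈ 𝓐, Group.IsNilpotent ↥A) := by
  classical
  obtain ⟨p, hp⟩ := CharP.exists F
  have := hp
  have : Fact p.Prime := ⟨CharP.char_is_prime F p⟩
  have hG' : (ncov_sl 2 F).range ≤ G := ncov_range_le_of_hyp hG
  have : Finite (ncov_Γ 2 F) := inferInstance
  have : Finite ↥G := inferInstance
  have hΩ : Fintype.card (ncov_Pt 2 F) ≡ 1 [MOD p] := ncov_card_Pt_modEq p (by norm_num)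
  have h3 : 3 ≤ Fintype.card (ncov_Pt 2 F) := ncov_three_le_card_Pt le_rfl
  have htr : ∀ a b : ncov_Pt 2 F, ∃ g : ↥G, g • a = b := ncov_trans_Pt hG'
  have hu : ∀ ω : ncov_Pt 2 F, ∃ u : ↥G, (∃ k : ℕ, u ^ p ^ k = 1) ∧ ∀ ω', u • ω' = ω' ↔ ω' = ω := by
    refine ncov_tc_hu (G := ↥G) (Ω := ncov_Pt 2 F) p htr
      ⟨ncov_sl 2 F (ncov_tc_U F), ncov_sl_mem hG' _⟩ (ncov_tc_e0 F) ?_ (fun c => ncov_tc_U_fix c)
    obtain ⟨k, hk⟩ := ncov_tc_slU_pow (F := F) p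
    refine ⟨k, Subtype.ext ?_⟩
    rw [Subgroup.coe_pow, Subgroup.coe_one]
    exact hk
  have hfix3 : ∀ g : ↥G, ∀ a b c : ncov_Pt 2 F, a ≠ b → a ≠ c → b ≠ c → g • a = a → g • b = b →
      g • c = c → g = 1 := fun g a b c hab hac hbc ha hb hc =>
    Subtype.ext (ncov_tf_fix3 (g : ncov_Γ 2 F) a b c hab hac hbc ha hb hc)
  rcases ncov_ff_cases (by rwa [Nat.card_eq_fintype_card]) G hG' with
    ⟨t₀, ht₀G, ht₀fix, ht₀sq⟩ | ⟨h5, hGeq⟩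
  · -- cases (I), (II)
    have hswap : ∀ g : ↥G, ∀ a b : ncov_Pt 2 F, a ≠ b → g • a = b → g • b = a → g * g = 1 :=
      fun g a b hab h1 h2 => Subtype.ext (ncov_tf_swap (g : ncov_Γ 2 F) a b hab h1 h2)
    have ht : ∀ a b : ncov_Pt 2 F, a ≠ b →
        ∃ t : ↥G, (∀ ω', t • ω' = ω' ↔ (ω' = a ∨ ω' = b)) ∧ t * t ≠ 1 := by
      refine ncov_tc_ht (G := ↥G) (Ω := ncov_Pt 2 F)
        (fun a b c d hab hcd => ncov_two_trans_Pt hG' hab hcd) ⟨t₀, ht₀G⟩ (ncov_e0 F) (ncov_e1 F)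
        ncov_e0_ne_e1 (fun c => ht₀fix c) ?_
      intro h
      apply ht₀sq
      have := congrArg Subtype.val h
      exact this
    exact ncov_two_I p hΩ h3 htr hu hfix3 hswap ht
  · -- case (III)
    have hswapfix : ∀ g : ↥G, ∀ a b : ncov_Pt 2 F, a ≠ b → g • a = b → g • b = a →
        ∃ c : ncov_Pt 2 F, g • c = c := by
      rintro ⟨γ, hγ⟩ a b hab h1 h2
      have hγ' : γ ∈ (ncov_sl 2 F).range := by rw [← hGeq]; exact hγ
      obtain ⟨A, rfl⟩ := hγ'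
      exact ncov_t3_swapfix h5 A a b hab h1 h2
    obtain ⟨xs, hxs, hxsfix⟩ := ncov_t3_xs (F := F) h5
    exact ncov_two_III p hΩ h3 htr hu hfix3 hswapfix ⟨xs, hG' hxs⟩ (ncov_e0 F) (ncov_e1 F)
      ncov_e0_ne_e1 (fun c => hxsfix c)

end Cfsg.Agent.NCov
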