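import Cfsg.Agent.NCov.Act
import Cfsg.Agent.NCov.TwoAbs
import Cfsg.Agent.NCov.TwoFix
import Cfsg.Agent.NCov.TwoConj
import Cfsg.Agent.NCov.TwoIII

/-!
# S3894 (swarm "NCov"), the case `n = 2` (helper3): instantiation of `ncov_two_I` / `ncov_two_III`
for a group between `PSL₂(F)` and `PGL₂(F)` acting on the projective line.

* case (I): some `α` with `α⁴ ≠ 1` (every `q ≥ 4`, `q ≠ 5`): `t₀ = diag(α, α⁻¹)`;
* case (II): `q = 5` and `G` is not the image of `SL₂`: `t₀ = diag(1, d)`, `d` a non-square determinant;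
* case (III): `q = 5` and `G` is the image of `SL₂`.
-/

set_option autoImplicit false

namespace Cfsg.Agent.NCov

open scoped LinearAlgebra.Projectivization MatrixGroups
open Matrix

variable {F : Type*} [Field F]

/-! ### Membership in the image of `SL₂` -/

/-- An element of `GL₂(F)` of determinant `1` comes from `SL₂(F)`. -/
theorem ncov_ti_mem_range_of_det (g : GL (Fin 2) F) (h : Matrix.GeneralLinearGroup.det g = 1) :
    (QuotientGroup.mk g : ncov_Γ 2 F) ∈ (ncov_sl 2 F).range := by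
  have hdet : (g : Matrix (Fin 2) (Fin 2) F).det = 1 := by
    have := congrArg Units.val h
    rwa [Matrix.GeneralLinearGroup.val_det_apply] at this
  let s : SpecialLinearGroup (Fin 2) F := ⟨(g : Matrix (Fin 2) (Fin 2) F), hdet⟩
  refine ⟨s, ?_⟩
  rw [ncov_sl_apply]
  congr 1
  apply Units.ext
  rfl

/-- Elements of the same determinant differ by an element of `SL₂`. -/
theorem ncov_ti_mem_of_det (G : Subgroup (ncov_Γ 2 F)) (hG : (ncov_sl 2 F).range ≤ G)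
    (g h : GL (Fin 2) F) (hh : (QuotientGroup.mk h : ncov_Γ 2 F) ∈ G)
    (hdet : Matrix.GeneralLinearGroup.det g = Matrix.GeneralLinearGroup.det h) :
    (QuotientGroup.mk g : ncov_Γ 2 F) ∈ G := by
  have h1 : (QuotientGroup.mk (g * h⁻¹) : ncov_Γ 2 F) ∈ G := by
    apply hG
    apply ncov_ti_mem_range_of_det
    rw [map_mul, map_inv, hdet, mul_inv_cancel]
  have h2 : (QuotientGroup.mk g : ncov_Γ 2 F) = QuotientGroup.mk (g * h⁻¹) * QuotientGroup.mk h := by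
    rw [← QuotientGroup.mk_mul, inv_mul_cancel_right]
  rw [h2]
  exact G.mul_mem h1 hh

theorem ncov_ti_dg_det (a d : Fˣ) : Matrix.GeneralLinearGroup.det (ncov_dg a d) = a * d := by
  apply Units.ext
  rw [Matrix.GeneralLinearGroup.val_det_apply, ncov_dg_coe, Matrix.det_fin_two_of]
  simp

/-- If `c² · det g = 1` then the class of `g` lies in the image of `SL₂`. -/
theorem ncov_ti_mem_range_of_sq (g : GL (Fin 2) F) (c : Fˣ)
    (h : c * c * Matrix.GeneralLinearGroup.det g = 1) :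
    (QuotientGroup.mk g : ncov_Γ 2 F) ∈ (ncov_sl 2 F).range := by
  have h1 : (QuotientGroup.mk (ncov_dg c c * g) : ncov_Γ 2 F) ∈ (ncov_sl 2 F).range := by
    apply ncov_ti_mem_range_of_det
    rw [map_mul, ncov_ti_dg_det, h]
  have h2 : (QuotientGroup.mk (ncov_dg c c * g) : ncov_Γ 2 F) = QuotientGroup.mk g := by
    rw [QuotientGroup.mk_mul]
    have : (QuotientGroup.mk (ncov_dg c c) : ncov_Γ 2 F) = 1 := ncov_d_self c
    rw [this, one_mul]
  rw [← h2]
  exact h1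

/-! ### Field facts -/

/-- In a finite field with at least `4` and not exactly `5` elements some unit has `α⁴ ≠ 1`. -/
theorem ncov_ti_exists_pow_four [Fintype F] (h4 : 4 ≤ Fintype.card F) (h5 : Fintype.card F ≠ 5) :
    ∃ α : Fˣ, α ^ 4 ≠ 1 := by
  classical
  by_contra hcon
  simp only [not_exists, not_not] at hcon
  obtain ⟨g, hg⟩ := IsCyclic.exists_generator (α := Fˣ)
  have hord : orderOf g = Fintype.card Fˣ := by
    rw [← Nat.card_eq_fintype_card]
    exact orderOf_eq_card_of_forall_mem_zpowers hg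
  have hdvd : orderOf g ∣ 4 := orderOf_dvd_of_pow_eq_one (hcon g)
  rw [hord, Fintype.card_units] at hdvd
  have hle : Fintype.card F - 1 ≤ 4 := Nat.le_of_dvd (by norm_num) hdvd
  have hcases : Fintype.card F = 4 ∨ Fintype.card F = 5 := by omega
  rcases hcases with h | h
  · rw [h] at hdvd
    norm_num at hdvd
  · exact h5 h

/-! ### The glue -/

section glue

variable [Fintype F] (G : Subgroup (ncov_Γ 2 F)) (hG : (ncov_sl 2 F).range ≤ G)

include hG

omit [Fintype F] in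
/-- `hu` of `ncov_two_I` / `ncov_two_III` for `↥G`. -/
theorem ncov_ti_hu (p : ℕ) [CharP F p] :
    ∀ ω : ncov_Pt 2 F, ∃ u : ↥G, (∃ k : ℕ, u ^ p ^ k = 1) ∧ ∀ ω', u • ω' = ω' ↔ ω' = ω := by
  obtain ⟨k, hk⟩ := ncov_tc_slU_pow (F := F) p
  refine ncov_tc_hu p (ncov_trans_Pt hG) ⟨ncov_sl 2 F (ncov_tc_U F), ncov_sl_mem hG _⟩ (ncov_tc_e0 F)
    ⟨k, ?_⟩ ?_
  · apply Subtype.ext
    rw [Subgroup.coe_pow]
    exact hk
  · intro c
    exact ncov_tc_U_fix c

omit hG [Fintype F] in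
/-- `hfix3` for `↥G`. -/
theorem ncov_ti_hfix3 :
    ∀ g : ↥G, ∀ a b c : ncov_Pt 2 F, a ≠ b → a ≠ c → b ≠ c → g • a = a → g • b = b → g • c = c →
      g = 1 := by
  intro g a b c hab hac hbc ha hb hc
  exact Subtype.ext (ncov_tf_fix3 g.1 a b c hab hac hbc ha hb hc)

/-- Cases (I)/(II) from one element `t₀ ∈ G` with `Fix t₀ = {e₀, e₁}` and `t₀² ≠ 1`. -/
theorem ncov_ti_glue_I (t0 : ncov_Γ 2 F) (ht0 : t0 ∈ G)
    (hfix : ∀ c : ncov_Pt 2 F, t0 • c = c ↔ (c = ncov_e0 F ∨ c = ncov_e1 F)) (hsq : t0 * t0 ≠ 1) :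
    ¬ ∃ 𝓐 : Finset (Subgroup ↥G), ((∀ A ∈ 𝓐, A ≠ ⊤) ∧ (∀ g : ↥G, ∃ A ∈ 𝓐, g ∈ A)) ∧
      (∀ 𝓑 : Finset (Subgroup ↥G), (∀ A ∈ 𝓑, A ≠ ⊤) ∧ (∀ g : ↥G, ∃ A ∈ 𝓑, g ∈ A) → 𝓐.card ≤ 𝓑.card) ∧
      (∀ A ∈ 𝓐, Group.IsNilpotent ↥A) := by
  classical
  obtain ⟨p, hp⟩ := CharP.exists F
  have := hp
  have : Fact p.Prime := ⟨CharP.char_is_prime F p⟩
  have : Finite (ncov_Γ 2 F) := inferInstance
  have : Finite ↥G := inferInstance
  refine ncov_two_I p (ncov_card_Pt_modEq p (by norm_num)) (ncov_three_le_card_Pt le_rfl)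
    (ncov_trans_Pt hG) (ncov_ti_hu G hG p) (ncov_ti_hfix3 G) ?_ ?_
  · intro g a b hab h1 h2
    exact Subtype.ext (ncov_tf_swap g.1 a b hab h1 h2)
  · refine ncov_tc_ht (fun a b c d hab hcd => ncov_two_trans_Pt hG hab hcd) ⟨t0, ht0⟩
      (ncov_e0 F) (ncov_e1 F) ncov_e0_ne_e1 (fun c => hfix c) ?_
    intro h
    apply hsq
    exact congrArg Subtype.val h

/-- Case (III): `q = 5` and `G` is the image of `SL₂`. -/
theorem ncov_ti_glue_III (hq : Fintype.card F = 5) (hle : G ≤ (ncov_sl 2 F).range) :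
    ¬ ∃ 𝓐 : Finset (Subgroup ↥G), ((∀ A ∈ 𝓐, A ≠ ⊤) ∧ (∀ g : ↥G, ∃ A ∈ 𝓐, g ∈ A)) ∧
      (∀ 𝓑 : Finset (Subgroup ↥G), (∀ A ∈ 𝓑, A ≠ ⊤) ∧ (∀ g : ↥G, ∃ A ∈ 𝓑, g ∈ A) → 𝓐.card ≤ 𝓑.card) ∧
      (∀ A ∈ 𝓐, Group.IsNilpotent ↥A) := by
  classical
  obtain ⟨p, hp⟩ := CharP.exists F
  have := hp
  have : Fact p.Prime := ⟨CharP.char_is_prime F p⟩
  have : Finite (ncov_Γ 2 F) := inferInstance
  have : Finite ↥G := inferInstance
  have hq' : Nat.card F = 5 := by rw [Nat.card_eq_fintype_card]; exact hq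
  obtain ⟨xs, hxs_mem, hxs⟩ := ncov_t3_xs (F := F) hq'
  refine ncov_two_III p (ncov_card_Pt_modEq p (by norm_num)) (ncov_three_le_card_Pt le_rfl)
    (ncov_trans_Pt hG) (ncov_ti_hu G hG p) (ncov_ti_hfix3 G) ?_ ⟨xs, hG hxs_mem⟩
    (ncov_e0 F) (ncov_e1 F) ncov_e0_ne_e1 (fun c => hxs c)
  intro g a b hab h1 h2
  obtain ⟨A, hA⟩ := hle g.2
  have h1' : ncov_sl 2 F A • a = b := by rw [hA]; exact h1
  have h2' : ncov_sl 2 F A • b = a := by rw [hA]; exact h2
  obtain ⟨c, hc⟩ := ncov_t3_swapfix hq' A a b hab h1' h2'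
  refine ⟨c, ?_⟩
  rw [hA] at hc
  exact hc

/-- **The case `n = 2`**, for `range (ncov_sl 2 F) ≤ G`. -/
theorem ncov_ti_core (h4 : 4 ≤ Fintype.card F) :
    ¬ ∃ 𝓐 : Finset (Subgroup ↥G), ((∀ A ∈ 𝓐, A ≠ ⊤) ∧ (∀ g : ↥G, ∃ A ∈ 𝓐, g ∈ A)) ∧
      (∀ 𝓑 : Finset (Subgroup ↥G), (∀ A ∈ 𝓑, A ≠ ⊤) ∧ (∀ g : ↥G, ∃ A ∈ 𝓑, g ∈ A) → 𝓐.card ≤ 𝓑.card) ∧
      (∀ A ∈ 𝓐, Group.IsNilpotent ↥A) := by
  classical
  by_cases h5 : Fintype.card F = 5
  · by_cases hle : G ≤ (ncov_sl 2 F).range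
    · exact ncov_ti_glue_III G hG h5 hle
    · obtain ⟨γ, hγG, hγ⟩ := SetLike.not_le_iff_exists.mp hle
      induction γ using QuotientGroup.induction_on with | _ g =>
      have hq' : Nat.card F = 5 := by rw [Nat.card_eq_fintype_card]; exact h5
      have h5' : (5 : F) = 0 := ncov_five_eq_zero hq'
      set d : Fˣ := Matrix.GeneralLinearGroup.det g with hd
      have hdd : ¬ ((1 : Fˣ) * 1 = d * d) := by
        intro h
        apply hγ
        have h' : (d : F) * d = 1 := by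
          have := congrArg Units.val h
          simpa using this.symm
        have hfac : ((d : F) - 1) * ((d : F) + 1) = 0 := by linear_combination h'
        rcases mul_eq_zero.mp hfac with h1 | h1
        · apply ncov_ti_mem_range_of_sq g 1
          rw [one_mul, one_mul]
          apply Units.ext
          rw [Units.val_one]
          linear_combination h1
        · have h2 : (2 : F) ≠ 0 := by
            intro h2
            have h10 : (1 : F) = 0 := by linear_combination h5' - 2 * h2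
            exact one_ne_zero h10
          apply ncov_ti_mem_range_of_sq g (Units.mk0 2 h2)
          apply Units.ext
          rw [Units.val_mul, Units.val_mul, Units.val_mk0, Units.val_one, ← hd]
          linear_combination 4 * h1 - h5'
      have h1d : (1 : Fˣ) ≠ d := by
        intro h
        apply hdd
        rw [← h]
      refine ncov_ti_glue_I G hG (ncov_d 1 d) ?_ (ncov_t3_diag_fix 1 d h1d) ?_
      · exact ncov_ti_mem_of_det G hG (ncov_dg 1 d) g hγG (by rw [ncov_ti_dg_det, one_mul])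
      · rw [Ne, ncov_d_mul_self]
        exact hdd
  · obtain ⟨α, hα⟩ := ncov_ti_exists_pow_four h4 h5
    have hne : α ≠ α⁻¹ := by
      intro h
      apply hα
      have h2 : α * α = 1 := by
        nth_rewrite 2 [h]
        exact mul_inv_cancel α
      have h4' : α ^ 4 = (α * α) * (α * α) := by
        rw [show (4 : ℕ) = 2 * 2 from rfl, pow_mul, sq, sq]
      rw [h4', h2, one_mul]
    refine ncov_ti_glue_I G hG (ncov_d α α⁻¹) ?_ (ncov_t3_diag_fix α α⁻¹ hne) ?_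
    · apply hG
      apply ncov_ti_mem_range_of_det
      rw [ncov_ti_dg_det, mul_inv_cancel]
    · rw [Ne, ncov_d_mul_self]
      intro h
      apply hα
      have h4' : α ^ 4 = (α * α) * (α * α) := by
        rw [show (4 : ℕ) = 2 * 2 from rfl, pow_mul, sq, sq]
      rw [h4']
      nth_rewrite 1 [h]
      group

end glue

/-- **S3894, the case `n = 2`**, with the hypothesis and the conclusion of the statement verbatim. -/
theorem ncov_ti_two {F : Type*} [Field F] [Fintype F] (h4 : 4 ≤ Fintype.card F)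
    (G : Subgroup (GL (Fin 2) F ⧸ Subgroup.center (GL (Fin 2) F)))
    (hG : ((Matrix.SpecialLinearGroup.toGL : Matrix.SpecialLinearGroup (Fin 2) F →* GL (Fin 2) F).range).map
      (QuotientGroup.mk' (Subgroup.center (GL (Fin 2) F))) ≤ G) :
    ¬ ∃ 𝓐 : Finset (Subgroup ↥G), ((∀ A ∈ 𝓐, A ≠ ⊤) ∧ (∀ g : ↥G, ∃ A ∈ 𝓐, g ∈ A)) ∧
      (∀ 𝓑 : Finset (Subgroup ↥G), (∀ A ∈ 𝓑, A ≠ ⊤) ∧ (∀ g : ↥G, ∃ A ∈ 𝓑, g ∈ A) → 𝓐.card ≤ 𝓑.card) ∧
      (∀ A ∈ 𝓐, Group.IsNilpotent ↥A) :=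
  ncov_ti_core G (ncov_range_le_of_hyp hG) h4

end Cfsg.Agent.NCov
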